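import Groth.Agent.Cyc.K308.DegLocus

/-!
# Modules filtered by invertible modules, and the product formula

* `RF Ls E`: the module `E` is obtained by successively dividing out images of the invertible
  modules in the list `Ls`, ending with zero (right exact filtration); stable under isomorphism
  (`RF.iso`), pullback (`RF.pullback`), and extensions (`RF.ext`).
* `C1 δ L`: the first Chern class as an endomorphism of `G X δ` for any module (zero if `L` is not
  invertible).
* `prod_eq_zero`: for an epimorphism `q : E ⟶ N` onto an invertible module,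
  `∏ (c_1(L_j) - c_1(N)) = 0` on the Chow group.
-/

set_option autoImplicit false
universe u v
open AlgebraicGeometry CategoryTheory CategoryTheory.Limits TopologicalSpace Opposite Cyc
open Groth.Agent.CycB Groth.Agent.CycB.C1Pull
open Groth.Agent.CycB.ModStalk Groth.Agent.CycB.StalkExact

namespace K308.Grp

variable {X Y Z : Scheme.{u}} {δX : X → ℤ} {δY : Y → ℤ} {δZ : Z → ℤ}

/-- Right exact filtrations with successive quotients of members of a list of modules. -/
def RF : List X.Modules → X.Modules → Prop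
  | [], E => IsZero E
  | (L :: Ls), E => ∃ a : L ⟶ E, RF Ls (cokernel a)

theorem RF.iso {Ls : List X.Modules} {E F : X.Modules} (h : RF Ls E) (e : E ≅ F) : RF Ls F := by
  induction Ls generalizing E F with
  | nil => exact IsZero.of_iso h e.symm
  | cons L Ls ih =>
    obtain ⟨a, ha⟩ := h
    refine ⟨a ≫ e.hom, ih ha ?_⟩
    exact cokernel.mapIso a (a ≫ e.hom) (Iso.refl _) e (by simp)

theorem RF.of_isColimit {L : X.Modules} {Ls : List X.Modules} {E F : X.Modules} (h : RF Ls F)
    (a : L ⟶ E) (b : E ⟶ F) (hab : a ≫ b = 0) (hc : IsColimit (CokernelCofork.ofπ b hab)) :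
    RF (L :: Ls) E :=
  ⟨a, h.iso (IsColimit.coconePointUniqueUpToIso hc (colimit.isColimit (parallelPair a 0)))⟩

theorem RF.of_exact {L : X.Modules} {Ls : List X.Modules} {E F : X.Modules} (h : RF Ls F)
    (a : L ⟶ E) (b : E ⟶ F) (hab : a ≫ b = 0) (hc : (ShortComplex.mk a b hab).Exact) [Epi b] :
    RF (L :: Ls) E :=
  RF.of_isColimit h a b hab hc.gIsCokernel

theorem RF.pullback {Ls : List X.Modules} {E : X.Modules} (h : RF Ls E) (f : Y ⟶ X) :
    RF (Ls.map (Scheme.Modules.pullback f).obj) ((Scheme.Modules.pullback f).obj E) := by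
  induction Ls generalizing E with
  | nil => exact Functor.map_isZero _ h
  | cons L Ls ih =>
    obtain ⟨a, ha⟩ := h
    refine ⟨(Scheme.Modules.pullback f).map a, (ih ha).iso ?_⟩
    exact PreservesCokernel.iso (Scheme.Modules.pullback f) a

theorem RF.ext {Ls Ms : List X.Modules} {A B C : X.Modules} (hA : RF Ls A) (hC : RF Ms C)
    (a : A ⟶ B) (b : B ⟶ C) (hab : a ≫ b = 0) (hc : (ShortComplex.mk a b hab).Exact) [Epi b] :
    RF (Ls ++ Ms) B := by
  induction Ls generalizing A B with
  | nil =>
    have h0 : a = 0 := IsZero.eq_of_src hA _ _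
    have h1 : Mono b := by
      have := hc.mono_g h0
      exact this
    have : IsIso b := isIso_of_mono_of_epi b
    exact hC.iso (asIso b).symm
  | cons L Ls ih =>
    obtain ⟨l, hl⟩ := hA
    let a' : cokernel l ⟶ cokernel (l ≫ a) := cokernel.map l (l ≫ a) (𝟙 _) a (by simp)
    let b' : cokernel (l ≫ a) ⟶ C := cokernel.desc (l ≫ a) b (by rw [Category.assoc, hab, comp_zero])
    have hb' : cokernel.π (l ≫ a) ≫ b' = b := cokernel.π_desc _ _ _
    have ha' : cokernel.π l ≫ a' = a ≫ cokernel.π (l ≫ a) := cokernel.π_desc _ _ _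
    have : Epi b' := by
      have : Epi (cokernel.π (l ≫ a) ≫ b') := by rw [hb']; infer_instance
      exact epi_of_epi (cokernel.π (l ≫ a)) b'
    have hab' : a' ≫ b' = 0 := by
      rw [← cancel_epi (cokernel.π l), reassoc_of% ha', hb', hab, comp_zero]
    refine ⟨l ≫ a, ih hl a' b' hab' ?_⟩
    apply ShortComplex.exact_of_g_is_cokernel
    refine CokernelCofork.IsColimit.ofπ _ _ (fun {T} k hk => hc.desc (cokernel.π (l ≫ a) ≫ k) ?_) ?_ ?_
    · dsimp only
      dsimp only at hk
      rw [← Category.assoc, ← ha', Category.assoc, hk, comp_zero]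
    · intro T k hk
      dsimp only
      rw [← cancel_epi (cokernel.π (l ≫ a)), reassoc_of% hb']
      exact hc.g_desc _ _
    · intro T k hk m hm
      dsimp only at hm ⊢
      rw [← cancel_epi b, hc.g_desc, ← hm, reassoc_of% hb']

/-! ### first Chern classes as endomorphisms -/

theorem end_mul_apply {A : Type*} [AddCommGroup A] (f g : AddMonoid.End A) (a : A) :
    (f * g) a = f (g a) := rfl

theorem end_sub_apply {A : Type*} [AddCommGroup A] (f g : AddMonoid.End A) (a : A) :
    (f - g) a = f a - g a := rfl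

theorem end_add_apply {A : Type*} [AddCommGroup A] (f g : AddMonoid.End A) (a : A) :
    (f + g) a = f a + g a := rfl

theorem end_neg_apply {A : Type*} [AddCommGroup A] (f : AddMonoid.End A) (a : A) :
    (-f) a = -f a := rfl

open Classical in
/-- The first Chern class of a module as an endomorphism of the Chow group, zero if the module is
not invertible. -/
noncomputable def C1 (δ : X → ℤ) (L : X.Modules) : AddMonoid.End (G X δ) :=
  if h : IsSetup X δ ∧ PicF.IsInvertible L then c1 h.1 h.2 else 0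

theorem C1_eq (hX : IsSetup X δX) {L : X.Modules} (hL : PicF.IsInvertible L) :
    C1 δX L = c1 hX hL := dif_pos ⟨hX, hL⟩

theorem C1_commute (δ : X → ℤ) (L N : X.Modules) : Commute (C1 δ L) (C1 δ N) := by
  unfold C1
  split_ifs with h1 h2
  · exact c1_mul_comm _ _ _
  · exact Commute.zero_right _
  · exact Commute.zero_left _
  · exact Commute.zero_left _

theorem C1_congr (δ : X → ℤ) {L N : X.Modules} (e : L ≅ N) : C1 δ L = C1 δ N := by
  unfold C1
  have h : (IsSetup X δ ∧ PicF.IsInvertible L) ↔ (IsSetup X δ ∧ PicF.IsInvertible N) := by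
    constructor
    · rintro ⟨hX, hL⟩
      refine ⟨hX, fun x => ?_⟩
      obtain ⟨U, hU, ⟨e'⟩⟩ := hL x
      exact ⟨U, hU, ⟨(Scheme.Modules.restrictFunctor U.ι).mapIso e.symm ≪≫ e'⟩⟩
    · rintro ⟨hX, hL⟩
      refine ⟨hX, fun x => ?_⟩
      obtain ⟨U, hU, ⟨e'⟩⟩ := hL x
      exact ⟨U, hU, ⟨(Scheme.Modules.restrictFunctor U.ι).mapIso e ≪≫ e'⟩⟩
  by_cases h1 : IsSetup X δ ∧ PicF.IsInvertible L
  · rw [dif_pos h1, dif_pos (h.1 h1)]
    exact c1_congr h1.1 h1.2 (h.1 h1).2 e
  · rw [dif_neg h1, dif_neg (fun h2 => h1 (h.2 h2))]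

theorem push_C1 (hX : IsSetup X δX) (hY : IsSetup Y δY) (f : X ⟶ Y) [IsProper f]
    (hδ : DeltaCompat f δX δY) {L : Y.Modules} (hL : PicF.IsInvertible L) (a : G X δX) :
    push hX hY f hδ (C1 δX ((Scheme.Modules.pullback f).obj L) a) =
      C1 δY L (push hX hY f hδ a) := by
  rw [C1_eq hX (isInvertible_pullback f hL), C1_eq hY hL, push_c1]

theorem pull_C1 (hX : IsSetup X δX) (hY : IsSetup Y δY) (f : X ⟶ Y) [Flat f] {c : ℤ}
    (hc : Shift f δX δY c) {L : Y.Modules} (hL : PicF.IsInvertible L) (a : G Y δY) :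
    pull hX hY f hc (C1 δY L a) = C1 δX ((Scheme.Modules.pullback f).obj L) (pull hX hY f hc a) := by
  rw [C1_eq hX (isInvertible_pullback f hL), C1_eq hY hL, pull_c1]

/-- `∏ (c_1(L_j) - c_1(N))`. -/
noncomputable def prodC (δ : X → ℤ) (Ls : List X.Modules) (N : X.Modules) :
    AddMonoid.End (G X δ) := (Ls.map fun L => C1 δ L - C1 δ N).prod

theorem prodC_nil (δ : X → ℤ) (N : X.Modules) : prodC δ [] N = 1 := rfl

theorem prodC_cons (δ : X → ℤ) (L : X.Modules) (Ls : List X.Modules) (N : X.Modules) :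
    prodC δ (L :: Ls) N = (C1 δ L - C1 δ N) * prodC δ Ls N := by
  unfold prodC
  rw [List.map_cons, List.prod_cons]

theorem prodC_cons' (δ : X → ℤ) (L : X.Modules) (Ls : List X.Modules) (N : X.Modules) :
    prodC δ (L :: Ls) N = prodC δ Ls N * (C1 δ L - C1 δ N) := by
  rw [prodC_cons]
  refine Commute.list_prod_right _ _ fun x hx => ?_
  rw [List.mem_map] at hx
  obtain ⟨M, -, rfl⟩ := hx
  exact ((C1_commute δ L M).sub_right (C1_commute δ L N)).sub_left
    ((C1_commute δ N M).sub_right (C1_commute δ N N))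

theorem push_prodC (hX : IsSetup X δX) (hY : IsSetup Y δY) (f : X ⟶ Y) [IsProper f]
    (hδ : DeltaCompat f δX δY) (Ls : List Y.Modules) (hLs : ∀ L ∈ Ls, PicF.IsInvertible L)
    {N : Y.Modules} (hN : PicF.IsInvertible N) (a : G X δX) :
    push hX hY f hδ (prodC δX (Ls.map (Scheme.Modules.pullback f).obj)
      ((Scheme.Modules.pullback f).obj N) a) = prodC δY Ls N (push hX hY f hδ a) := by
  induction Ls with
  | nil => rfl
  | cons L Ls ih =>
    rw [List.map_cons, prodC_cons, prodC_cons, end_mul_apply, end_mul_apply,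
      end_sub_apply, end_sub_apply, map_sub,
      push_C1 hX hY f hδ (hLs L (by simp)), push_C1 hX hY f hδ hN,
      ih (fun M hM => hLs M (List.mem_cons_of_mem _ hM))]

theorem isEmpty_of_isZero {N : X.Modules} (hN : PicF.IsInvertible N) (h : IsZero N) : IsEmpty X := by
  refine ⟨fun x => ?_⟩
  obtain ⟨t, ht⟩ := exists_isGen hN x
  have h0 : stalkLin (𝟙 N) x t = 0 := by
    have h1 : (𝟙 N : N ⟶ N) = 0 := h.eq_of_src _ _
    obtain ⟨U, hU, s, rfl⟩ := N.presheaf.exists_germ_eq t
    rw [stalkLin_germ, h1]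
    exact map_zero _
  rw [stalkLin_id] at h0
  have h2 : t = 0 := h0
  have h3 : (1 : X.presheaf.stalk x) = 0 := ht.1 (by
    dsimp only
    rw [h2, smul_zero, smul_zero])
  exact one_ne_zero h3

theorem G_eq_zero_of_isEmpty [IsEmpty X] (a : G X δX) : a = 0 := by
  obtain ⟨α, rfl⟩ := cl_surjective δX a
  have : α = 0 := by
    ext x
    exact isEmptyElim x
  rw [this, map_zero]

theorem prodC_eq_zero_aux (n : ℕ) : ∀ {X : Scheme.{u}} {δX : X → ℤ} (hX : IsSetup X δX)
    (Ls : List X.Modules) (_ : Ls.length = n)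
    (hLs : ∀ L ∈ Ls, PicF.IsInvertible L) {E : X.Modules} (hE : RF Ls E) {N : X.Modules}
    (hN : PicF.IsInvertible N) (q : E ⟶ N) [Epi q] (a : G X δX), prodC δX Ls N a = 0 := by
  induction n with
  | zero =>
    intro X δX hX Ls hn hLs E hE N hN q _ a
    obtain rfl : Ls = [] := List.eq_nil_of_length_eq_zero hn
    have h0 : IsZero N := by
      have h1 : IsZero E := hE
      exact IsZero.of_epi q h1
    have := isEmpty_of_isZero hN h0
    rw [G_eq_zero_of_isEmpty a, map_zero]
  | succ n ih =>
    intro X δX hX Ls hn hLs E hE N hN q _ a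
    obtain ⟨L, Ls, rfl⟩ := List.exists_cons_of_length_eq_add_one hn
    obtain ⟨l, hl⟩ := hE
    have hL : PicF.IsInvertible L := hLs L (by simp)
    have hLs' : ∀ M ∈ Ls, PicF.IsInvertible M := fun M hM => hLs M (List.mem_cons_of_mem _ hM)
    obtain ⟨D, i, hi, h1, h2⟩ := exists_degLocus (l ≫ q) hL hN
    have hD := C1Fin.isSetup_of_isClosedImmersion i hX
    have hiδ := GysinFib.deltaCompat_closedImmersion i δX
    obtain ⟨b, hb⟩ := exists_push_eq (l ≫ q) hX hL hN i hD hiδ h1 a
    have h3 : (C1 δX L - C1 δX N) a = -push hD hX i hiδ b := by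
      rw [end_sub_apply, C1_eq hX hL, C1_eq hX hN, ← hb, neg_sub]
    rw [prodC_cons', end_mul_apply, h3, map_neg,
      ← push_prodC hD hX i hiδ Ls hLs' hN b]
    have h4 : (Scheme.Modules.pullback i).map l ≫ (Scheme.Modules.pullback i).map q = 0 := by
      rw [← Functor.map_comp, h2]
    let q' : cokernel ((Scheme.Modules.pullback i).map l) ⟶ (Scheme.Modules.pullback i).obj N :=
      cokernel.desc _ ((Scheme.Modules.pullback i).map q) h4
    have : Epi q' := by
      have h5 : cokernel.π _ ≫ q' = (Scheme.Modules.pullback i).map q := cokernel.π_desc _ _ _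
      have : Epi (cokernel.π ((Scheme.Modules.pullback i).map l) ≫ q') := by
        rw [h5]; infer_instance
      exact epi_of_epi (cokernel.π _) q'
    have h6 : RF (Ls.map (Scheme.Modules.pullback i).obj)
        (cokernel ((Scheme.Modules.pullback i).map l)) :=
      (hl.pullback i).iso (PreservesCokernel.iso (Scheme.Modules.pullback i) l)
    rw [ih hD _ (by rw [List.length_map]; simpa using hn) (fun M hM => by
      rw [List.mem_map] at hM
      obtain ⟨M', hM', rfl⟩ := hM
      exact isInvertible_pullback i (hLs' M' hM')) h6 (isInvertible_pullback i hN) q' b, map_zero,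
      neg_zero]

/-- **Product formula**: if `E` is filtered by invertible modules `L_j` and `q : E ⟶ N` is an
epimorphism onto an invertible module then `∏_j (c_1(L_j) - c_1(N)) = 0` on the Chow group. -/
theorem prodC_eq_zero (hX : IsSetup X δX) (Ls : List X.Modules)
    (hLs : ∀ L ∈ Ls, PicF.IsInvertible L) {E : X.Modules} (hE : RF Ls E) {N : X.Modules}
    (hN : PicF.IsInvertible N) (q : E ⟶ N) [Epi q] (a : G X δX) : prodC δX Ls N a = 0 :=
  prodC_eq_zero_aux _ hX Ls rfl hLs hE hN q a

end K308.Grp
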