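import Groth.Agent.Cyc.K308.RFilt
import Groth.Agent.Krr.H483.PBTop
import Groth.Agent.Sga5.ProjSmooth
import Groth.Agent.FibDim.K582.RelDim
import Groth.Agent.S2768
import Groth.Agent.Sga67.LocBasis

/-!
# Projective bundles: smoothness, relative dimension

For a projective bundle `π : P ⟶ X` (`KRR.IsProjBundle`) of a module of rank `r + 1`:
`smoothOfRelativeDimension`, `flat`, `hasRelDim`; for rank `n` arbitrary: `flat'`,
`shift : Shift π δP δ (n - 1)`, `isEmpty` if `n = 0`.
-/

set_option autoImplicit false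
universe u v
open AlgebraicGeometry CategoryTheory CategoryTheory.Limits TopologicalSpace Opposite Cyc

namespace K308.PB

open Groth.Agent.Krr.H484.PBCharts K308.Grp

variable {X P : Scheme.{u}}

theorem smoothOfRelativeDimension {r : ℕ} {π : P ⟶ X} {E : X.Modules}
    (hE : FlatMod.IsFinLocFreeOfRank (r + 1) E) {O1 : P.Modules}
    {q : (Scheme.Modules.pullback π).obj E ⟶ O1} (B : KRR.IsProjBundle π E O1 q) :
    SmoothOfRelativeDimension r π := by
  choose W hW hx t using fun x : X => exists_triv hE x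
  let 𝒰 : X.OpenCover := Scheme.Cover.mkOfCovers X (fun x => Spec Γ(X, W x)) (fun x => (hW x).fromSpec)
    (fun x => by
      have : x ∈ Set.range (hW x).fromSpec := by rw [(hW x).range_fromSpec]; exact hx x
      obtain ⟨y, hy⟩ := this
      exact ⟨x, y, hy⟩) (fun x => inferInstance)
  apply IsZariskiLocalAtTarget.of_openCover (P := @SmoothOfRelativeDimension r) 𝒰
  intro x
  obtain ⟨j, hj, -⟩ := exists_chart B (A := Γ(X, W x)) (hW x).fromSpec (t x).some
  change SmoothOfRelativeDimension r (pullback.snd π (hW x).fromSpec)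
  rw [← hj.isoPullback_inv_snd]
  have h1 : SmoothOfRelativeDimension (0 + r) (hj.isoPullback.inv ≫
      CohB1.ProjSpace.toSpec r Γ(X, W x)) := inferInstance
  rwa [zero_add] at h1

theorem smooth {r : ℕ} {π : P ⟶ X} {E : X.Modules}
    (hE : FlatMod.IsFinLocFreeOfRank (r + 1) E) {O1 : P.Modules}
    {q : (Scheme.Modules.pullback π).obj E ⟶ O1} (B : KRR.IsProjBundle π E O1 q) :
    Smooth π := by
  have := smoothOfRelativeDimension hE B
  exact SmoothOfRelativeDimension.smooth r π

theorem flat {r : ℕ} {π : P ⟶ X} {E : X.Modules}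
    (hE : FlatMod.IsFinLocFreeOfRank (r + 1) E) {O1 : P.Modules}
    {q : (Scheme.Modules.pullback π).obj E ⟶ O1} (B : KRR.IsProjBundle π E O1 q) :
    Flat π := by
  have := smooth hE B
  infer_instance

theorem hasRelDim_of_smooth {r : ℕ} (π : P ⟶ X) [SmoothOfRelativeDimension r π] :
    HasRelDim π r := by
  have : Smooth π := SmoothOfRelativeDimension.smooth r π
  rw [K582.FibRelDim.hasRelDim_iff]
  intro x
  exact Groth.Agent.S2768.result r π x

theorem hasRelDim {r : ℕ} {π : P ⟶ X} {E : X.Modules}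
    (hE : FlatMod.IsFinLocFreeOfRank (r + 1) E) {O1 : P.Modules}
    {q : (Scheme.Modules.pullback π).obj E ⟶ O1} (B : KRR.IsProjBundle π E O1 q) :
    HasRelDim π r := by
  have := smoothOfRelativeDimension hE B
  exact hasRelDim_of_smooth π

/-- A module locally free of rank zero is zero. -/
theorem isZero_of_rank_zero {E : X.Modules} (hE : FlatMod.IsFinLocFreeOfRank 0 E) : IsZero E := by
  rw [IsZero.iff_id_eq_zero]
  apply Groth.Agent.Sga67.Sec.hom_ext_of_locally
  intro x U hx
  obtain ⟨V, hV, hVE⟩ := hE x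
  obtain ⟨b, hb⟩ := Groth.Agent.Sga67.LocBasis.nonempty_restrict_iso_iff.mp hVE
  refine ⟨U ⊓ V, inf_le_left, ⟨hx, hV⟩, fun s => ?_⟩
  obtain ⟨a, rfl⟩ := (hb (U ⊓ V) inf_le_right).2 s
  rw [Subsingleton.elim a 0, map_zero, map_zero, map_zero]

theorem isEmpty {π : P ⟶ X} {E : X.Modules}
    (hE : FlatMod.IsFinLocFreeOfRank 0 E) {O1 : P.Modules}
    {q : (Scheme.Modules.pullback π).obj E ⟶ O1} (B : KRR.IsProjBundle π E O1 q) :
    IsEmpty P := by
  have h1 : IsZero ((Scheme.Modules.pullback π).obj E) :=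
    Functor.map_isZero _ (isZero_of_rank_zero hE)
  have := B.epi
  have h2 : IsZero O1 := IsZero.of_epi q h1
  exact isEmpty_of_isZero (Groth.Agent.Ega2.QCohLocal.isFinLocFreeOfRank_one_iff.1 B.invertible) h2

theorem flat' {n : ℕ} {π : P ⟶ X} {E : X.Modules}
    (hE : FlatMod.IsFinLocFreeOfRank n E) {O1 : P.Modules}
    {q : (Scheme.Modules.pullback π).obj E ⟶ O1} (B : KRR.IsProjBundle π E O1 q) :
    Flat π := by
  obtain _ | r := n
  · have := isEmpty hE B
    infer_instance
  · exact flat hE B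

theorem isProper {n : ℕ} {π : P ⟶ X} {E : X.Modules}
    (hE : FlatMod.IsFinLocFreeOfRank n E) {O1 : P.Modules}
    {q : (Scheme.Modules.pullback π).obj E ⟶ O1} (B : KRR.IsProjBundle π E O1 q) :
    IsProper π := by
  obtain _ | r := n
  · have := isEmpty hE B
    infer_instance
  · exact Groth.Agent.Krr.H483.PBTop.isProper hE B

theorem shift {n : ℕ} {π : P ⟶ X} [LocallyOfFiniteType π] {E : X.Modules}
    (hE : FlatMod.IsFinLocFreeOfRank n E) {O1 : P.Modules}
    {q : (Scheme.Modules.pullback π).obj E ⟶ O1} (B : KRR.IsProjBundle π E O1 q)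
    {δP : P → ℤ} {δ : X → ℤ} (hδ : DeltaCompat π δP δ) : Shift π δP δ ((n : ℤ) - 1) := by
  obtain _ | r := n
  · have := isEmpty hE B
    exact fun x => isEmptyElim x
  · have := shift_of_hasRelDim (hasRelDim hE B) hδ
    rwa [Nat.cast_add, Nat.cast_one, add_sub_cancel_right]

theorem invertible {π : P ⟶ X} {E : X.Modules} {O1 : P.Modules}
    {q : (Scheme.Modules.pullback π).obj E ⟶ O1} (B : KRR.IsProjBundle π E O1 q) :
    PicF.IsInvertible O1 := Groth.Agent.Ega2.QCohLocal.isFinLocFreeOfRank_one_iff.1 B.invertible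

end K308.PB
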