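import Groth.Agent.Cyc.K308.RFilt
import Groth.Agent.Cyc.K305.TensCap
import Groth.Agent.Cyc.K305.StructCap

/-!
# First Chern classes of tensor products on the ungraded Chow group

`C1_tensor`, `C1_structure`, `C1_of_tensor_iso` (inverse modules have opposite first Chern classes).
-/

set_option autoImplicit false
universe u v
open AlgebraicGeometry CategoryTheory CategoryTheory.Limits TopologicalSpace Opposite Cyc
open Groth.Agent.CycB Groth.Agent.CycB.C1Pull

namespace K308.Grp

variable {X : Scheme.{u}} {δX : X → ℤ} {L N : X.Modules}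

theorem end_ext {A : Type*} [AddCommGroup A] {f g : AddMonoid.End A} (h : ∀ a, f a = g a) : f = g :=
  AddMonoidHom.ext h

theorem isInvertible_tensorMod (hL : PicF.IsInvertible L) (hN : PicF.IsInvertible N) :
    PicF.IsInvertible (CohB1.tensorMod L N) := Groth.Agent.Fdesc.LocGen.isInvertible_tensorMod hL hN

theorem C1_tensor (hX : IsSetup X δX) (hL : PicF.IsInvertible L) (hN : PicF.IsInvertible N) :
    C1 δX (CohB1.tensorMod L N) = C1 δX L + C1 δX N := by
  have hT := isInvertible_tensorMod hL hN
  rw [C1_eq hX hL, C1_eq hX hN, C1_eq hX hT]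
  refine end_ext fun a => ?_
  obtain ⟨α, rfl⟩ := cl_surjective δX a
  rw [end_add_apply, c1_cl_capCycle, c1_cl_capCycle, c1_cl_capCycle, ← map_add]
  symm
  rw [cl_eq_iff']
  intro k
  rw [part_add]
  exact K305.TensCap.ratEquiv_add hL hN k (part δX (k + 1) α) (part_mem _ _ _) (sec hL)
    (sec_ne_zero hL) (sec hN) (sec_ne_zero hN) (sec hT) (sec_ne_zero hT) _ _ _
    (part_c1Cap L α _ _ (coe_capCycle hX hL α) k) (part_c1Cap N α _ _ (coe_capCycle hX hN α) k)
    (part_c1Cap _ α _ _ (coe_capCycle hX hT α) k)

theorem isInvertible_structureModule (X : Scheme.{u}) : PicF.IsInvertible (Coh.structureModule X) :=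
  K305.StructCap.isInvertible_structureModule X

theorem C1_structure (hX : IsSetup X δX) : C1 δX (Coh.structureModule X) = 0 := by
  have hO := isInvertible_structureModule X
  rw [C1_eq hX hO]
  refine end_ext fun a => ?_
  obtain ⟨α, rfl⟩ := cl_surjective δX a
  rw [c1_cl_capCycle]
  change cl δX (capCycle hX hO α) = 0
  rw [cl_eq_zero_iff']
  intro k
  exact K305.StructCap.ratEquivZero k (part δX (k + 1) α) (part_mem _ _ _) (sec hO)
    (sec_ne_zero hO) _ (part_c1Cap _ α _ _ (coe_capCycle hX hO α) k)

/-- Inverse modules have opposite first Chern classes. -/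
theorem C1_of_tensor_iso (hX : IsSetup X δX) (hL : PicF.IsInvertible L) (hN : PicF.IsInvertible N)
    (e : CohB1.tensorMod L N ≅ Coh.structureModule X) : C1 δX N = -C1 δX L := by
  have h := C1_congr δX e
  rw [C1_tensor hX hL hN, C1_structure hX] at h
  exact (neg_eq_of_add_eq_zero_right h).symm

end K308.Grp
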