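import Mathlib.Algebra.Polynomial.BigOperators
import Mathlib.Algebra.BigOperators.NatAntidiagonal
import Mathlib.Algebra.Polynomial.Coeff
import Mathlib.Tactic.Ring
import Mathlib.Tactic.LinearCombination
import Mathlib.Data.List.OfFn

/-!
# Elementary symmetric functions of a list

`eL l j` is the `j`-th elementary symmetric function of the list `l` of elements of a commutative
ring: the `j`-th coefficient of `∏ (1 + x T)`.
-/

set_option autoImplicit false

open Polynomial

namespace K308.ListSymm

variable {R S : Type*} [CommRing R] [CommRing S]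

/-- The polynomial `∏ (1 + x T)`. -/
noncomputable def pL (l : List R) : R[X] := (l.map fun x => 1 + C x * X).prod

/-- The elementary symmetric functions of a list. -/
noncomputable def eL (l : List R) (j : ℕ) : R := (pL l).coeff j

theorem pL_nil : pL ([] : List R) = 1 := rfl

theorem pL_cons (x : R) (l : List R) : pL (x :: l) = (1 + C x * X) * pL l := by
  unfold pL
  rw [List.map_cons, List.prod_cons]

theorem pL_append (l m : List R) : pL (l ++ m) = pL l * pL m := by
  unfold pL
  rw [List.map_append, List.prod_append]

theorem pL_perm {l m : List R} (h : l.Perm m) : pL l = pL m :=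
  (h.map _).prod_eq

theorem eL_perm {l m : List R} (h : l.Perm m) (j : ℕ) : eL l j = eL m j := by
  unfold eL
  rw [pL_perm h]

theorem eL_nil_zero : eL ([] : List R) 0 = 1 := by
  unfold eL
  rw [pL_nil, coeff_one_zero]

theorem eL_nil_succ (j : ℕ) : eL ([] : List R) (j + 1) = 0 := by
  unfold eL
  rw [pL_nil, coeff_one, if_neg (by omega)]

theorem eL_cons_zero (x : R) (l : List R) : eL (x :: l) 0 = eL l 0 := by
  unfold eL
  rw [pL_cons, add_mul, one_mul, coeff_add, mul_assoc, coeff_C_mul, coeff_zero_eq_eval_zero (X * _)]
  simp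

theorem eL_cons_succ (x : R) (l : List R) (j : ℕ) :
    eL (x :: l) (j + 1) = eL l (j + 1) + x * eL l j := by
  unfold eL
  rw [pL_cons, add_mul, one_mul, coeff_add, mul_assoc, coeff_C_mul, coeff_X_mul]

theorem eL_zero (l : List R) : eL l 0 = 1 := by
  induction l with
  | nil => exact eL_nil_zero
  | cons x l ih => rw [eL_cons_zero, ih]

theorem eL_eq_zero (l : List R) {j : ℕ} (h : l.length < j) : eL l j = 0 := by
  induction l generalizing j with
  | nil =>
    obtain ⟨j, rfl⟩ := Nat.exists_eq_add_of_lt h
    exact eL_nil_succ _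
  | cons x l ih =>
    obtain _ | j := j
    · simp at h
    · rw [List.length_cons] at h
      rw [eL_cons_succ, ih (by omega), ih (by omega), mul_zero, add_zero]

theorem eL_append (l m : List R) (j : ℕ) :
    eL (l ++ m) j = ∑ ab ∈ Finset.antidiagonal j, eL l ab.1 * eL m ab.2 := by
  unfold eL
  rw [pL_append, coeff_mul]

theorem eL_append_one (l m : List R) : eL (l ++ m) 1 = eL l 1 + eL m 1 := by
  rw [eL_append, Finset.Nat.antidiagonal_succ, Finset.sum_cons, Finset.sum_map,
    Finset.Nat.antidiagonal_zero, Finset.sum_singleton]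
  simp [eL_zero]
  ring

theorem eL_append_two (l m : List R) :
    eL (l ++ m) 2 = eL l 2 + eL l 1 * eL m 1 + eL m 2 := by
  rw [eL_append, Finset.Nat.sum_antidiagonal_eq_sum_range_succ (fun a b => eL l a * eL m b)]
  rw [Finset.sum_range_succ, Finset.sum_range_succ, Finset.sum_range_succ, Finset.sum_range_zero]
  simp only [eL_zero, Nat.sub_zero, Nat.sub_self]
  norm_num
  ring

theorem eL_one (l : List R) : eL l 1 = l.sum := by
  induction l with
  | nil => exact eL_nil_succ 0
  | cons x l ih => rw [eL_cons_succ, ih, eL_zero, List.sum_cons]; ring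

theorem eL_map (f : R →+* S) (l : List R) (j : ℕ) : eL (l.map f) j = f (eL l j) := by
  induction l generalizing j with
  | nil =>
    obtain _ | j := j
    · rw [List.map_nil, eL_nil_zero, eL_nil_zero, map_one]
    · rw [List.map_nil, eL_nil_succ, eL_nil_succ, map_zero]
  | cons x l ih =>
    obtain _ | j := j
    · rw [eL_zero, eL_zero, map_one]
    · rw [List.map_cons, eL_cons_succ, eL_cons_succ, ih, ih, map_add, map_mul]

theorem eL_neg (l : List R) (j : ℕ) : eL (l.map fun x => -x) j = (-1) ^ j * eL l j := by
  induction l generalizing j with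
  | nil =>
    obtain _ | j := j
    · rw [List.map_nil, eL_nil_zero, pow_zero, one_mul]
    · rw [List.map_nil, eL_nil_succ, mul_zero]
  | cons x l ih =>
    obtain _ | j := j
    · rw [eL_zero, eL_zero, pow_zero, one_mul]
    · rw [List.map_cons, eL_cons_succ, eL_cons_succ, ih, ih, pow_succ]
      ring

/-- The product `∏ (x - y)` in terms of elementary symmetric functions. -/
theorem prod_sub (l : List R) (y : R) : (l.map fun x => x - y).prod =
    ∑ i ∈ Finset.range (l.length + 1), (-1) ^ i * y ^ i * eL l (l.length - i) := by
  induction l with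
  | nil => simp [eL_nil_zero]
  | cons x l ih =>
    rw [List.map_cons, List.prod_cons, ih, List.length_cons, sub_mul]
    have h1 : ∑ i ∈ Finset.range (l.length + 1 + 1), (-1) ^ i * y ^ i *
        eL (x :: l) (l.length + 1 - i) = ∑ i ∈ Finset.range (l.length + 1 + 1),
          (-1) ^ i * y ^ i * eL l (l.length + 1 - i) +
        ∑ i ∈ Finset.range (l.length + 1), (-1) ^ i * y ^ i * (x * eL l (l.length - i)) := by
      rw [Finset.sum_range_succ, Finset.sum_range_succ _ (l.length + 1)]
      have h2 : ∑ i ∈ Finset.range (l.length + 1), (-1) ^ i * y ^ i *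
          eL (x :: l) (l.length + 1 - i) = ∑ i ∈ Finset.range (l.length + 1),
            ((-1) ^ i * y ^ i * eL l (l.length + 1 - i) +
              (-1) ^ i * y ^ i * (x * eL l (l.length - i))) := by
        refine Finset.sum_congr rfl fun i hi => ?_
        rw [Finset.mem_range] at hi
        rw [show l.length + 1 - i = (l.length - i) + 1 by omega, eL_cons_succ]
        ring
      rw [h2, Finset.sum_add_distrib, Nat.sub_self, eL_zero, eL_zero]
      ring
    rw [h1, Finset.sum_range_succ' _ (l.length + 1), Nat.sub_zero,
      eL_eq_zero l (Nat.lt_succ_self _), mul_zero, add_zero, Finset.mul_sum, Finset.mul_sum]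
    rw [sub_eq_add_neg, add_comm, ← Finset.sum_neg_distrib]
    congr 1
    · refine Finset.sum_congr rfl fun i _ => ?_
      rw [Nat.add_sub_add_right, pow_succ, pow_succ]
      ring
    · refine Finset.sum_congr rfl fun i _ => ?_
      ring

/-- Comparison with sums over subsets. -/
theorem eL_ofFn {r : ℕ} (x : Fin r → R) (n : ℕ) :
    eL (List.ofFn x) n = ∑ I ∈ Finset.powersetCard n (Finset.univ : Finset (Fin r)), ∏ i ∈ I, x i := by
  unfold eL pL
  rw [List.map_ofFn, List.prod_ofFn]
  have h : ∏ i : Fin r, ((fun x => 1 + C x * X) ∘ x) i =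
      ∑ I ∈ (Finset.univ : Finset (Fin r)).powerset, C (∏ i ∈ I, x i) * X ^ I.card := by
    simp only [Function.comp]
    rw [Finset.prod_one_add]
    refine Finset.sum_congr rfl fun I _ => ?_
    rw [Finset.prod_mul_distrib, Finset.prod_const, map_prod]
  rw [h, finsetSum_coeff, Finset.powersetCard_eq_filter, Finset.sum_filter]
  refine Finset.sum_congr rfl fun I _ => ?_
  rw [coeff_C_mul, coeff_X_pow]
  split_ifs with h1 h2 h2
  · rw [mul_one]
  · exact absurd h1.symm h2
  · exact absurd h2.symm h1
  · rw [mul_zero]

/-! ### tensor products -/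

/-- the list of all sums -/
def sumL (l m : List R) : List R := l.flatMap fun x => m.map fun y => x + y

theorem sumL_nil (m : List R) : sumL [] m = [] := rfl

theorem sumL_cons (x : R) (l m : List R) : sumL (x :: l) m = (m.map fun y => x + y) ++ sumL l m := rfl

theorem eL_shift_one (x : R) (m : List R) :
    eL (m.map fun y => x + y) 1 = (m.length : R) * x + eL m 1 := by
  induction m with
  | nil => simp [eL_nil_succ]
  | cons y m ih =>
    rw [List.map_cons, eL_cons_succ, ih, eL_cons_succ, eL_zero, eL_zero, List.length_cons]
    push_cast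
    ring

theorem two_choose (n : ℕ) : ((n + 1).choose 2 : R) = (n.choose 2 : R) + n := by
  rw [Nat.choose_succ_succ, Nat.choose_one_right]
  push_cast
  ring

theorem eL_shift_two (x : R) (m : List R) :
    eL (m.map fun y => x + y) 2 = (m.length.choose 2 : R) * x ^ 2 +
      ((m.length : R) - 1) * x * eL m 1 + eL m 2 := by
  induction m with
  | nil => simp [eL_nil_succ]
  | cons y m ih =>
    rw [List.map_cons, eL_cons_succ, ih, eL_cons_succ, eL_cons_succ, eL_zero, eL_shift_one,
      List.length_cons, two_choose]
    push_cast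
    ring

theorem eL_sumL_one (l m : List R) :
    eL (sumL l m) 1 = (m.length : R) * eL l 1 + (l.length : R) * eL m 1 := by
  induction l with
  | nil => simp [sumL_nil, eL_nil_succ]
  | cons x l ih =>
    rw [sumL_cons, eL_append_one, ih, eL_shift_one, eL_cons_succ, eL_zero, List.length_cons]
    push_cast
    ring

theorem choose_two_mul (n : ℕ) : 2 * (n.choose 2 : R) = (n : R) * ((n : R) - 1) := by
  induction n with
  | zero => simp
  | succ n ih =>
    rw [two_choose, mul_add, ih]
    push_cast
    ring

theorem eL_sumL_two (l m : List R) :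
    eL (sumL l m) 2 = (l.length : R) * eL m 2 + (m.length : R) * eL l 2 +
      (l.length.choose 2 : R) * eL m 1 ^ 2 +
        ((l.length : R) * (m.length : R) - 1) * (eL m 1 * eL l 1) +
          (m.length.choose 2 : R) * eL l 1 ^ 2 := by
  induction l with
  | nil => simp [sumL_nil, eL_nil_succ]
  | cons x l ih =>
    rw [sumL_cons, eL_append_two, ih, eL_shift_one, eL_shift_two, eL_sumL_one, eL_cons_succ,
      eL_cons_succ, eL_zero, List.length_cons, two_choose]
    push_cast
    linear_combination (-(x * eL l 1)) * (choose_two_mul (R := R) m.length)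

end K308.ListSymm
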