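import Groth.Agent.Cyc.K308.ChernG
import Groth.Agent.Cyc.K308.ListSymm
import Groth.Agent.CycB.SetupLft
import Groth.Agent.Cyc.K306.RelDimIso

/-!
# Elementary symmetric functions in first Chern classes; uniqueness of Chern classes

* `ec δ Ls j`: the `j`-th elementary symmetric function of the first Chern classes of a list of
  modules, as an endomorphism of the Chow group; `pull_ec`, `push_ec`, `prodC_eq_sum`;
* `PB1`: the first part of the projective bundle formula as a predicate; `chernRel_unique`;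
* `chern_eq_ec`: if `E` is filtered by invertible modules the Chern classes are elementary symmetric
  functions of their first Chern classes;
* `ChernRel.pull`: flat base change of the relation.
-/

set_option autoImplicit false
universe u v
open AlgebraicGeometry CategoryTheory CategoryTheory.Limits TopologicalSpace Opposite Cyc
open Groth.Agent.CycB Groth.Agent.CycB.C1Pull
open K308.ListSymm

namespace K308.Grp

variable {X Y Z P P' : Scheme.{u}} {δX : X → ℤ} {δY : Y → ℤ} {δZ : Z → ℤ} {δP : P → ℤ}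
  {δP' : P' → ℤ}

/-- Elementary symmetric functions in first Chern classes. -/
noncomputable def ec (δ : X → ℤ) (Ls : List X.Modules) (j : ℕ) : AddMonoid.End (G X δ) :=
  ((eL (Ls.map (c1R δ)) j : CR δ) : AddMonoid.End (G X δ))

theorem coe_c1R (δ : X → ℤ) (L : X.Modules) : ((c1R δ L : CR δ) : AddMonoid.End (G X δ)) = C1 δ L :=
  rfl

theorem ec_zero (δ : X → ℤ) (Ls : List X.Modules) : ec δ Ls 0 = 1 := by
  unfold ec
  rw [eL_zero]
  rfl

theorem ec_nil_succ (δ : X → ℤ) (j : ℕ) : ec δ ([] : List X.Modules) (j + 1) = 0 := by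
  unfold ec
  rw [List.map_nil, eL_nil_succ]
  rfl

theorem ec_cons_succ (δ : X → ℤ) (L : X.Modules) (Ls : List X.Modules) (j : ℕ) :
    ec δ (L :: Ls) (j + 1) = ec δ Ls (j + 1) + C1 δ L * ec δ Ls j := by
  unfold ec
  rw [List.map_cons, eL_cons_succ]
  rfl

theorem ec_eq_zero (δ : X → ℤ) (Ls : List X.Modules) {j : ℕ} (h : Ls.length < j) :
    ec δ Ls j = 0 := by
  unfold ec
  rw [eL_eq_zero _ (by rwa [List.length_map])]
  rfl

theorem ec_append (δ : X → ℤ) (Ls Ms : List X.Modules) (j : ℕ) :
    ec δ (Ls ++ Ms) j = ∑ ab ∈ Finset.antidiagonal j, ec δ Ls ab.1 * ec δ Ms ab.2 := by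
  unfold ec
  rw [List.map_append, eL_append]
  push_cast
  rfl

theorem ec_perm (δ : X → ℤ) {Ls Ms : List X.Modules} (h : Ls.Perm Ms) (j : ℕ) :
    ec δ Ls j = ec δ Ms j := by
  unfold ec
  rw [eL_perm (h.map _)]

theorem ec_reverse (δ : X → ℤ) (Ls : List X.Modules) (j : ℕ) :
    ec δ Ls.reverse j = ec δ Ls j := ec_perm δ Ls.reverse_perm j

theorem cr_commute (δ : X → ℤ) (a b : CR δ) :
    Commute (a : AddMonoid.End (G X δ)) (b : AddMonoid.End (G X δ)) := by
  have h : a * b = b * a := mul_comm a b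
  exact congrArg Subtype.val h

theorem ec_commute (δ : X → ℤ) (Ls Ms : List X.Modules) (i j : ℕ) :
    Commute (ec δ Ls i) (ec δ Ms j) := cr_commute δ _ _

theorem ec_C1_commute (δ : X → ℤ) (Ls : List X.Modules) (i : ℕ) (L : X.Modules) :
    Commute (ec δ Ls i) (C1 δ L) := cr_commute δ _ (c1R δ L)

theorem ec_one (δ : X → ℤ) (Ls : List X.Modules) : ec δ Ls 1 = (Ls.map (C1 δ)).sum := by
  induction Ls with
  | nil => rw [ec_nil_succ]; rfl
  | cons L Ls ih => rw [ec_cons_succ, ih, ec_zero, mul_one, List.map_cons, List.sum_cons, add_comm]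

theorem ec_congr (δ : X → ℤ) {Ls Ms : List X.Modules}
    (h : List.Forall₂ (fun L M => Nonempty (L ≅ M)) Ls Ms) (j : ℕ) : ec δ Ls j = ec δ Ms j := by
  induction h generalizing j with
  | nil => rfl
  | cons h1 _ ih =>
    obtain _ | j := j
    · rw [ec_zero, ec_zero]
    · rw [ec_cons_succ, ec_cons_succ, ih, ih, C1_congr δ h1.some]

theorem pull_ec (hX : IsSetup X δX) (hY : IsSetup Y δY) (f : X ⟶ Y) [Flat f] {c : ℤ}
    (hc : Shift f δX δY c) (Ls : List Y.Modules) (hLs : ∀ L ∈ Ls, PicF.IsInvertible L) (j : ℕ)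
    (a : G Y δY) : pull hX hY f hc (ec δY Ls j a) =
      ec δX (Ls.map (Scheme.Modules.pullback f).obj) j (pull hX hY f hc a) := by
  induction Ls generalizing j with
  | nil =>
    obtain _ | j := j
    · rw [ec_zero, ec_zero]; rfl
    · rw [List.map_nil, ec_nil_succ, ec_nil_succ]
      exact map_zero _
  | cons L Ls ih =>
    obtain _ | j := j
    · rw [ec_zero, ec_zero]; rfl
    · rw [List.map_cons, ec_cons_succ, ec_cons_succ, end_add_apply, end_add_apply, map_add,
        end_mul_apply, end_mul_apply, pull_C1 hX hY f hc (hLs L (by simp)),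
        ih (fun M hM => hLs M (List.mem_cons_of_mem _ hM)),
        ih (fun M hM => hLs M (List.mem_cons_of_mem _ hM))]

theorem push_ec (hX : IsSetup X δX) (hY : IsSetup Y δY) (f : X ⟶ Y) [IsProper f]
    (hδ : DeltaCompat f δX δY) (Ls : List Y.Modules) (hLs : ∀ L ∈ Ls, PicF.IsInvertible L) (j : ℕ)
    (a : G X δX) : push hX hY f hδ (ec δX (Ls.map (Scheme.Modules.pullback f).obj) j a) =
      ec δY Ls j (push hX hY f hδ a) := by
  induction Ls generalizing j with
  | nil =>
    obtain _ | j := j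
    · rw [ec_zero, ec_zero]; rfl
    · rw [List.map_nil, ec_nil_succ, ec_nil_succ]
      exact map_zero _
  | cons L Ls ih =>
    obtain _ | j := j
    · rw [ec_zero, ec_zero]; rfl
    · rw [List.map_cons, ec_cons_succ, ec_cons_succ, end_add_apply, end_add_apply, map_add,
        end_mul_apply, end_mul_apply, push_C1 hX hY f hδ (hLs L (by simp)),
        ih (fun M hM => hLs M (List.mem_cons_of_mem _ hM)),
        ih (fun M hM => hLs M (List.mem_cons_of_mem _ hM))]

theorem prodC_eq_sum (δ : X → ℤ) (Ls : List X.Modules) (N : X.Modules) :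
    prodC δ Ls N = ∑ i ∈ Finset.range (Ls.length + 1),
      (-1 : ℤ) ^ i • (C1 δ N ^ i * ec δ Ls (Ls.length - i)) := by
  have h1 : prodC δ Ls N =
      (((Ls.map (c1R δ)).map fun x => x - c1R δ N).prod : CR δ) := by
    unfold prodC
    rw [← Subring.coe_subtype, map_list_prod, List.map_map, List.map_map]
    rfl
  rw [h1, prod_sub, List.length_map, ← Subring.coe_subtype, map_sum]
  refine Finset.sum_congr rfl fun i _ => ?_
  rw [map_mul, map_mul, map_pow, map_pow, map_neg, map_one, mul_assoc]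
  change (-1 : AddMonoid.End (G X δ)) ^ i * (C1 δ N ^ i * ec δ Ls (Ls.length - i)) = _
  rw [← Int.cast_one, ← Int.cast_neg, ← Int.cast_pow, zsmul_eq_mul]

/-! ### uniqueness of Chern classes -/

/-- The first part of the projective bundle formula, as a property of the data. -/
def PB1 (hP : IsSetup P δP) (hX : IsSetup X δX) (p : P ⟶ X) [IsProper p] [Flat p]
    (hδ : DeltaCompat p δP δX) {e : ℤ} (he : Shift p δP δX e) (O1 : P.Modules) (r : ℕ) : Prop :=
  ∀ (a : G X δX) (s : ℕ),
    (s + 1 < r → push hP hX p hδ ((C1 δP O1 ^ s) (pull hP hX p he a)) = 0) ∧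
    (s + 1 = r → push hP hX p hδ ((C1 δP O1 ^ s) (pull hP hX p he a)) = a)

theorem chernRel_unique_zero {hP : IsSetup P δP} {hX : IsSetup X δX} {p : P ⟶ X} [IsProper p]
    [Flat p] {hδ : DeltaCompat p δP δX} {e : ℤ} {he : Shift p δP δX e} {O1 : P.Modules} {r : ℕ}
    (H : PB1 hP hX p hδ he O1 r) {c : ℕ → G X δX} (hc : ChernRel hP hX p he O1 r c)
    (h0 : c 0 = 0) (j : ℕ) (hj : j ≤ r) : c j = 0 := by
  induction j using Nat.strong_induction_on with
  | _ j ih =>
    obtain _ | j := j
    · exact h0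
    unfold ChernRel at hc
    have h1 := congrArg (fun a => push hP hX p hδ ((C1 δP O1 ^ j) a)) hc
    rw [map_zero, map_zero, map_sum, map_sum, Finset.sum_eq_single (r - (j + 1))] at h1
    · rw [map_zsmul, map_zsmul, ← end_mul_apply, ← pow_add,
        (H (c (r - (r - (j + 1)))) (j + (r - (j + 1)))).2 (by omega),
        show r - (r - (j + 1)) = j + 1 by omega] at h1
      rcases Nat.even_or_odd (r - (j + 1)) with h2 | h2
      · rwa [h2.neg_one_pow, one_smul] at h1
      · rwa [h2.neg_one_pow, neg_smul, one_smul, neg_eq_zero] at h1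
    · intro i hi hij
      rw [Finset.mem_range] at hi
      rcases lt_or_gt_of_ne hij with h2 | h2
      · rw [map_zsmul, map_zsmul, ← end_mul_apply, ← pow_add, (H (c (r - i)) (j + i)).1 (by omega),
          smul_zero]
      · rw [ih (r - i) (by omega) (by omega), map_zero]
        have h3 : (C1 δP O1 ^ i) (0 : G P δP) = 0 := map_zero _
        rw [h3, smul_zero, map_zero, map_zero]
    · intro h
      exact absurd (Finset.mem_range.2 (by omega)) h

theorem ChernRel.sub {hP : IsSetup P δP} {hX : IsSetup X δX} {p : P ⟶ X}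
    [Flat p] {e : ℤ} {he : Shift p δP δX e} {O1 : P.Modules} {r : ℕ}
    {c c' : ℕ → G X δX} (hc : ChernRel hP hX p he O1 r c) (hc' : ChernRel hP hX p he O1 r c') :
    ChernRel hP hX p he O1 r (fun n => c n - c' n) := by
  unfold ChernRel at *
  have h := congrArg₂ (fun a b => a - b) hc hc'
  rw [sub_zero, ← Finset.sum_sub_distrib] at h
  rw [← h]
  refine Finset.sum_congr rfl fun i _ => ?_
  rw [map_sub, map_sub, smul_sub]

theorem chernRel_unique {hP : IsSetup P δP} {hX : IsSetup X δX} {p : P ⟶ X} [IsProper p]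
    [Flat p] {hδ : DeltaCompat p δP δX} {e : ℤ} {he : Shift p δP δX e} {O1 : P.Modules} {r : ℕ}
    (H : PB1 hP hX p hδ he O1 r) {c c' : ℕ → G X δX} (hc : ChernRel hP hX p he O1 r c)
    (hc' : ChernRel hP hX p he O1 r c') (h0 : c 0 = c' 0) (j : ℕ) (hj : j ≤ r) : c j = c' j := by
  rw [← sub_eq_zero]
  exact chernRel_unique_zero H (hc.sub hc') (sub_eq_zero.2 h0) j hj

/-- Elementary symmetric functions of the quotients of a filtration satisfy the defining relation
of Chern classes. -/
theorem chernRel_ec (hP : IsSetup P δP) (hX : IsSetup X δX) {p : P ⟶ X}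
    [Flat p] {e : ℤ} (he : Shift p δP δX e) {O1 : P.Modules} (hO : PicF.IsInvertible O1)
    {E : X.Modules} (q : (Scheme.Modules.pullback p).obj E ⟶ O1) [Epi q] {Ls : List X.Modules}
    (hLs : ∀ L ∈ Ls, PicF.IsInvertible L) (hE : RF Ls E) (a : G X δX) :
    ChernRel hP hX p he O1 Ls.length (fun j => ec δX Ls j a) := by
  have h1 := prodC_eq_zero hP (Ls.map (Scheme.Modules.pullback p).obj) (fun M hM => by
    rw [List.mem_map] at hM
    obtain ⟨M', hM', rfl⟩ := hM
    exact isInvertible_pullback p (hLs M' hM')) (hE.pullback p) hO q (pull hP hX p he a)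
  rw [prodC_eq_sum, ← AddMonoid.End.sum_apply', List.length_map] at h1
  unfold ChernRel
  rw [← h1]
  refine Finset.sum_congr rfl fun i _ => ?_
  rw [pull_ec hP hX p he Ls hLs]
  rfl

/-- If `E` is filtered by invertible modules, its Chern classes are the elementary symmetric
functions of their first Chern classes. -/
theorem chern_eq_ec {hP : IsSetup P δP} {hX : IsSetup X δX} {p : P ⟶ X} [IsProper p]
    [Flat p] {hδ : DeltaCompat p δP δX} {e : ℤ} {he : Shift p δP δX e} {O1 : P.Modules}
    (hO : PicF.IsInvertible O1) {E : X.Modules} (q : (Scheme.Modules.pullback p).obj E ⟶ O1) [Epi q]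
    {Ls : List X.Modules} (hLs : ∀ L ∈ Ls, PicF.IsInvertible L) (hE : RF Ls E)
    (H : PB1 hP hX p hδ he O1 Ls.length) {c : ℕ → G X δX}
    (hc : ChernRel hP hX p he O1 Ls.length c) (j : ℕ) (hj : j ≤ Ls.length) :
    c j = ec δX Ls j (c 0) :=
  chernRel_unique H hc (chernRel_ec hP hX he hO q hLs hE (c 0)) (by rw [ec_zero]; rfl) j hj

/-! ### flat base change -/

theorem pull_congr {hX : IsSetup X δX} {hY : IsSetup Y δY} {f g : X ⟶ Y} [Flat f] [Flat g] {c d : ℤ}
    (hc : Shift f δX δY c) (hd : Shift g δX δY d) (e : f = g) (hcd : c = d) (a : G Y δY) :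
    pull hX hY f hc a = pull hX hY g hd a := by
  subst e
  subst hcd
  rfl

theorem pull_C1_pow (hX : IsSetup X δX) (hY : IsSetup Y δY) (f : X ⟶ Y) [Flat f] {c : ℤ}
    (hc : Shift f δX δY c) {L : Y.Modules} (hL : PicF.IsInvertible L) (n : ℕ) (a : G Y δY) :
    pull hX hY f hc ((C1 δY L ^ n) a) =
      (C1 δX ((Scheme.Modules.pullback f).obj L) ^ n) (pull hX hY f hc a) := by
  induction n generalizing a with
  | zero => rfl
  | succ n ih => rw [pow_succ, pow_succ, end_mul_apply, end_mul_apply, ih, pull_C1 hX hY f hc hL]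

theorem push_C1_pow (hX : IsSetup X δX) (hY : IsSetup Y δY) (f : X ⟶ Y) [IsProper f]
    (hδ : DeltaCompat f δX δY) {L : Y.Modules} (hL : PicF.IsInvertible L) (n : ℕ) (a : G X δX) :
    push hX hY f hδ ((C1 δX ((Scheme.Modules.pullback f).obj L) ^ n) a) =
      (C1 δY L ^ n) (push hX hY f hδ a) := by
  induction n generalizing a with
  | zero => rfl
  | succ n ih => rw [pow_succ, pow_succ, end_mul_apply, end_mul_apply, ih, push_C1 hX hY f hδ hL]

/-- Flat base change of the defining relation of Chern classes. -/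
theorem ChernRel.pull {hP : IsSetup P δP} {hX : IsSetup X δX} {p : P ⟶ X}
    [Flat p] {e : ℤ} {he : Shift p δP δX e} {O1 : P.Modules} (hO : PicF.IsInvertible O1) {r : ℕ}
    {c : ℕ → G X δX} (hc : ChernRel hP hX p he O1 r c)
    (hP' : IsSetup P' δP') (hY : IsSetup Y δY) {p' : P' ⟶ Y} [Flat p'] (he' : Shift p' δP' δY e)
    {f : Y ⟶ X} [Flat f] {d : ℤ} (hf : Shift f δY δX d) {g : P' ⟶ P} [Flat g]
    (hg : Shift g δP' δP d) (w : g ≫ p = p' ≫ f) :
    ChernRel hP' hY p' he' ((Scheme.Modules.pullback g).obj O1) r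
      (fun n => Grp.pull hY hX f hf (c n)) := by
  unfold ChernRel at *
  have h1 := congrArg (fun a => Grp.pull hP' hP g hg a) hc
  rw [map_zero, map_sum] at h1
  rw [← h1]
  refine Finset.sum_congr rfl fun i _ => ?_
  rw [map_zsmul]
  congr 1
  have h2 : Grp.pull hP' hY p' he' (Grp.pull hY hX f hf (c (r - i))) =
      Grp.pull hP' hP g hg (Grp.pull hP hX p he (c (r - i))) := by
    have s1 : Shift (p' ≫ f) δP' δX (e + d) := he'.comp hf
    have s2 : Shift (g ≫ p) δP' δX (d + e) := hg.comp he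
    rw [pull_pull hP' hY hX p' f he' hf s1 rfl, pull_pull hP' hP hX g p hg he s2 rfl]
    exact pull_congr _ _ w.symm (add_comm _ _) _
  rw [h2, pull_C1_pow hP' hP g hg hO]

end K308.Grp
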