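import Groth.Agent.Cyc.K308.Tower
import Groth.Agent.Cyc.K308.ECap
import Groth.Agent.CycB.RelDim4

/-!
# The splitting principle for Chern classes

`PBAll`: the first part of the projective bundle formula for all projective bundles.
* `IsTower.pull_injective`: flat pullback along a tower of projective bundles is injective;
* `pull_chern`: along a flat `f : Y ⟶ X` such that `f^*E` is filtered by invertible modules, the
  pullbacks of the Chern classes of `E` are elementary symmetric functions;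
* `exists_split`: the splitting principle.
-/

set_option autoImplicit false
universe u v
open AlgebraicGeometry CategoryTheory CategoryTheory.Limits TopologicalSpace Opposite Cyc
open Groth.Agent.CycB Groth.Agent.CycB.C1Pull

namespace K308.Grp

variable {X Y P : Scheme.{u}} {δX : X → ℤ} {δY : Y → ℤ} {δP : P → ℤ}

/-! ### open immersions -/

theorem mult_open {U : Scheme.{u}} (j : U ⟶ X) [IsOpenImmersion j] (x : U) :
    FlatLength.mult j x = 1 := by
  unfold FlatLength.mult
  have hs : Function.Surjective (j.stalkMap x).hom :=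
    (ConcreteCategory.bijective_of_isIso (j.stalkMap x)).2
  rw [IsLocalRing.map_maximalIdeal_of_surjective _ hs]
  have : IsSimpleModule (U.presheaf.stalk x)
      (U.presheaf.stalk x ⧸ IsLocalRing.maximalIdeal (U.presheaf.stalk x)) :=
    isSimpleModule_iff_isCoatom.2 (IsLocalRing.maximalIdeal.isMaximal _).out
  exact Module.length_eq_one _ _

theorem pullFun_open {U : Scheme.{u}} {δU : U → ℤ} (j : U ⟶ X) [IsOpenImmersion j]
    (h : ∀ x, δU x = δX (j x)) (α : X → ℤ) (x : U) :
    pullFun j δU δX 0 α x = α (j x) := by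
  rw [FlatLength.pullFun_apply, mult_open, if_pos (by rw [h, add_zero])]
  simp

theorem shift_open {U : Scheme.{u}} {δU : U → ℤ} (j : U ⟶ X) (h : ∀ x, δU x = δX (j x)) :
    Shift j δU δX 0 := fun x _ => by rw [h, add_zero]

theorem pull_id (hX : IsSetup X δX) (h : Shift (𝟙 X) δX δX 0) (a : G X δX) :
    pull hX hX (𝟙 X) h a = a := by
  obtain ⟨α, rfl⟩ := cl_surjective δX a
  refine pull_cl hX hX (𝟙 X) h ?_
  funext x
  rw [pullFun_open (𝟙 X) (fun _ => rfl)]
  rfl

theorem deltaCompat_eq_open {U : Scheme.{u}} {δU : U → ℤ} (j : U ⟶ X) [IsOpenImmersion j]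
    (h : DeltaCompat j δU δX) (x : U) : δU x = δX (j x) :=
  congrFun (SetupLft.deltaCompat_unique h (GysinFib.deltaCompat_closedImmersion j δX)) x

theorem pull_injective_of_isIso (hX : IsSetup X δX) (hP : IsSetup P δP) (f : P ⟶ X) [IsIso f]
    (hδ : DeltaCompat f δP δX) (hd : Shift f δP δX 0) : Function.Injective (pull hP hX f hd) := by
  have h1 := deltaCompat_eq_open f hδ
  have h2 : ∀ x, δX x = δP ((inv f) x) := fun x => by
    rw [h1]
    change δX x = δX ((inv f ≫ f) x)
    rw [IsIso.inv_hom_id]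
    rfl
  intro a b hab
  have h3 : ∀ a, pull hX hP (inv f) (shift_open _ h2) (pull hP hX f hd a) = a := fun a => by
    have s : Shift (inv f ≫ f) δX δX (0 + 0) := (shift_open _ h2).comp hd
    have s' : Shift (𝟙 X) δX δX 0 := shift_open (𝟙 X) (fun _ => rfl)
    rw [pull_pull hX hP hX (inv f) f (shift_open _ h2) hd s (by simp),
      pull_congr s s' (by simp) (by simp), pull_id]
  rw [← h3 a, hab, h3]

/-! ### towers -/

/-- The first part of the projective bundle formula, for all projective bundles. -/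
def PBAll : Prop := ∀ {X P : Scheme.{u}} {δX : X → ℤ} {δP : P → ℤ} (hX : IsSetup X δX)
  (hP : IsSetup P δP) {n : ℕ} {p : P ⟶ X} {E : X.Modules} {O1 : P.Modules}
  {q : (Scheme.Modules.pullback p).obj E ⟶ O1} (_ : FlatMod.IsFinLocFreeOfRank n E)
  (_ : KRR.IsProjBundle p E O1 q) [IsProper p] [Flat p] (hδ : DeltaCompat p δP δX)
  (he : Shift p δP δX ((n : ℤ) - 1)), PB1 hP hX p hδ he O1 n

theorem deltaCompat_of_comp' {Z : Scheme.{u}} {δZ : Z → ℤ} (f : X ⟶ Y) (g : Y ⟶ Z)
    [LocallyOfFiniteType f] (h : DeltaCompat (f ≫ g) δX δZ) (hg : DeltaCompat g δY δZ) :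
    DeltaCompat f δX δY := by
  obtain ⟨δ', h'⟩ := SetupLft.exists_deltaCompat f δY
  have := SetupLft.deltaCompat_unique (RelDim.deltaCompat_comp h' hg) h
  rwa [this] at h'

theorem IsTower.pull_injective (H : PBAll.{u}) {f : P ⟶ X} {d : ℕ} (hf : IsTower f d) :
    ∀ [Flat f] {δX : X → ℤ} {δP : P → ℤ} (hX : IsSetup X δX) (hP : IsSetup P δP)
      (_ : DeltaCompat f δP δX) (hd : Shift f δP δX (d : ℤ)),
      Function.Injective (pull hP hX f hd) := by
  induction hf with
  | iso f hf =>
    intro _ δX δP hX hP hδ hd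
    exact pull_injective_of_isIso hX hP f hδ hd
  | @cons P' P X g f h e d r hf E hE O1 q B ih =>
    intro hfl δX δP hX hP hδ hd
    subst e
    have hff := hf.flat
    have hfp := hf.isProper
    have hg := PB.isProper hE B
    have hgf := PB.flat hE B
    obtain ⟨δ, hδf⟩ := SetupLft.exists_deltaCompat f δX
    have hPs : IsSetup P δ := SetupLft.isSetup_of_deltaCompat f hX hδf
    have hδg : DeltaCompat g δP δ := deltaCompat_of_comp' g f hδ hδf
    have hdf : Shift f δ δX (d : ℤ) := shift_of_hasRelDim hf.hasRelDim hδf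
    have hdg : Shift g δP δ ((((r + 1 : ℕ) : ℤ)) - 1) := PB.shift hE B hδg
    have hdg' : Shift g δP δ (r : ℤ) := by
      have e : ((r + 1 : ℕ) : ℤ) - 1 = r := by push_cast; ring
      rwa [e] at hdg
    have h1 := H hPs hP hE B hδg hdg
    intro a b hab
    apply ih hX hPs hδf hdf
    have h2 : ∀ a, pull hP hX (g ≫ f) hd a = pull hP hPs g hdg (pull hPs hX f hdf a) := fun a =>
      (pull_pull hP hPs hX g f hdg hdf hd (by push_cast; ring) a).symm
    rw [h2, h2] at hab
    have h3 := congrArg (fun a => push hP hPs g hδg ((C1 δP O1 ^ r) a)) hab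
    have h4 := (h1 (pull hPs hX f hdf a) r).2 rfl
    have h5 := (h1 (pull hPs hX f hdf b) r).2 rfl
    rw [← h4, ← h5]
    exact h3

theorem hasRelDim_of_isPullback {X' Y' : Scheme.{u}} {f' : X' ⟶ Y'} {g' : X' ⟶ X} {g : Y' ⟶ Y}
    {f : X ⟶ Y} (h : IsPullback f' g' g f) [LocallyOfFiniteType f] {r : ℕ} (hr : HasRelDim f r) :
    HasRelDim f' r := by
  rw [← h.isoPullback_hom_fst]
  exact K306.RelDimIso.hasRelDim_iso_comp _ _ (RelDim.hasRelDim_fst hr)

/-- Pullbacks of Chern classes along a flat morphism `f : Y ⟶ X` such that `f^*E` is filtered by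
invertible modules. -/
theorem pull_chern (H : PBAll.{u}) (hX : IsSetup X δX) (hY : IsSetup Y δY) (f : Y ⟶ X) [Flat f]
    [LocallyOfFiniteType f] {d : ℕ} (hd : HasRelDim f d) (hδf : DeltaCompat f δY δX)
    (hf : Shift f δY δX d) {E : X.Modules} {Ls : List Y.Modules}
    (hLs : ∀ L ∈ Ls, PicF.IsInvertible L) (hE' : RF Ls ((Scheme.Modules.pullback f).obj E))
    {n : ℕ} (hn : Ls.length = n) (hE : FlatMod.IsFinLocFreeOfRank n E)
    (hP : IsSetup P δP) {p : P ⟶ X} [IsProper p] [Flat p] (hδp : DeltaCompat p δP δX)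
    (he : Shift p δP δX ((n : ℤ) - 1)) {O1 : P.Modules}
    {q : (Scheme.Modules.pullback p).obj E ⟶ O1}
    (B : KRR.IsProjBundle p E O1 q) {c : ℕ → G X δX} (hc : ChernRel hP hX p he O1 n c)
    (j : ℕ) (hj : j ≤ n) :
    pull hY hX f hf (c j) = ec δY Ls j (pull hY hX f hf (c 0)) := by
  subst hn
  have sq : IsPullback (Limits.pullback.fst p f) (Limits.pullback.snd p f) p f :=
    IsPullback.of_hasPullback p f
  set g := Limits.pullback.fst p f
  set p' := Limits.pullback.snd p f
  have : Flat g := MorphismProperty.of_isPullback sq.flip (inferInstance : Flat f)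
  have : Flat p' := MorphismProperty.of_isPullback sq (inferInstance : Flat p)
  obtain ⟨δ', hδ'⟩ := SetupLft.exists_deltaCompat g δP
  have hP' : IsSetup (Limits.pullback p f) δ' := SetupLft.isSetup_of_deltaCompat g hP hδ'
  have hg : Shift g δ' δP (d : ℤ) := shift_of_hasRelDim (hasRelDim_of_isPullback sq hd) hδ'
  have hδp' : DeltaCompat p' δ' δY := by
    refine deltaCompat_of_comp' p' f ?_ hδf
    rw [← sq.w]
    exact RelDim.deltaCompat_comp hδ' hδp
  have B' := Groth.Agent.Krr.H484.PBTransport.baseChange sq B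
  have hE'' := Groth.Agent.Vancyc.H878.Triv.isFinLocFreeOfRank_pullback f hE
  have he' : Shift p' δ' δY ((Ls.length : ℤ) - 1) := PB.shift hE'' B' hδp'
  have := B'.epi
  exact chern_eq_ec (PB.invertible B') (Groth.Agent.Krr.H484.PBTransport.bcq sq.w q) hLs hE'
    (H hY hP' hE'' B' hδp' he') (hc.pull (PB.invertible B) hP' hY he' hf hg sq.w) j hj

/-- The data of a splitting of a family of modules: a flat morphism `π : Y ⟶ X`, injective on Chow
groups, over which all modules of the family are filtered by invertible modules. -/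
structure Splitting (hX : IsSetup X δX) {m : ℕ} (E : Fin m → X.Modules) (rk : Fin m → ℕ) where
  Y : Scheme.{u}
  π : Y ⟶ X
  d : ℕ
  tower : IsTower π d
  δ : Y → ℤ
  setup : IsSetup Y δ
  compat : DeltaCompat π δ δX
  fl : Flat π
  shift : Shift π δ δX (d : ℤ)
  inj : Function.Injective (pull setup hX π shift)
  Ls : Fin m → List Y.Modules
  length : ∀ i, (Ls i).length = rk i
  inv : ∀ i, ∀ L ∈ Ls i, PicF.IsInvertible L
  filt : ∀ i, SF (Ls i) ((Scheme.Modules.pullback π).obj (E i))

/-- **The splitting principle.** -/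
theorem exists_splitting (H : PBAll.{u}) (hX : IsSetup X δX) {m : ℕ} (E : Fin m → X.Modules)
    (rk : Fin m → ℕ) (hE : ∀ i, FlatMod.IsFinLocFreeOfRank (rk i) (E i)) :
    Nonempty (Splitting hX E rk) := by
  obtain ⟨Y, π, d, Ls, hπ, h⟩ := exists_tower m E rk hE
  have hfl := hπ.flat
  have hpr := hπ.isProper
  obtain ⟨δ, hδ⟩ := SetupLft.exists_deltaCompat π δX
  have hY : IsSetup Y δ := SetupLft.isSetup_of_deltaCompat π hX hδ
  have hs : Shift π δ δX (d : ℤ) := shift_of_hasRelDim hπ.hasRelDim hδ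
  exact ⟨⟨Y, π, d, hπ, δ, hY, hδ, hfl, hs, hπ.pull_injective H hX hY hδ hs, Ls,
    fun i => (h i).1, fun i => (h i).2.1, fun i => (h i).2.2⟩⟩

namespace Splitting

variable {hX : IsSetup X δX} {m : ℕ} {E : Fin m → X.Modules} {rk : Fin m → ℕ}
  (S : Splitting hX E rk)

instance : Flat S.π := S.fl

instance : IsProper S.π := S.tower.isProper

/-- Pullback of classes. -/
noncomputable def pb : G X δX →+ G S.Y S.δ := pull S.setup hX S.π S.shift

theorem pb_injective : Function.Injective S.pb := S.inj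

theorem pb_c1 {L : X.Modules} (hL : PicF.IsInvertible L) (a : G X δX) :
    S.pb (C1 δX L a) = C1 S.δ ((Scheme.Modules.pullback S.π).obj L) (S.pb a) :=
  pull_C1 S.setup hX S.π S.shift hL a

/-- The Chern classes of a module on `X` whose pullback is filtered by invertible modules. -/
theorem pb_chern' (H : PBAll.{u}) {F : X.Modules} {Ls : List S.Y.Modules}
    (hLs : ∀ L ∈ Ls, PicF.IsInvertible L) (hF' : RF Ls ((Scheme.Modules.pullback S.π).obj F))
    {n : ℕ} (hn : Ls.length = n) (hF : FlatMod.IsFinLocFreeOfRank n F)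
    (hP : IsSetup P δP) {p : P ⟶ X} [IsProper p] [Flat p] (hδp : DeltaCompat p δP δX)
    (he : Shift p δP δX ((n : ℤ) - 1)) {O1 : P.Modules}
    {q : (Scheme.Modules.pullback p).obj F ⟶ O1}
    (B : KRR.IsProjBundle p F O1 q) {c : ℕ → G X δX} (hc : ChernRel hP hX p he O1 n c)
    (j : ℕ) (hj : j ≤ n) : S.pb (c j) = ec S.δ Ls j (S.pb (c 0)) :=
  pull_chern H hX S.setup S.π S.tower.hasRelDim S.compat S.shift hLs hF' hn hF hP hδp he B hc j hj

/-- The Chern classes of the members of the family. -/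
theorem pb_chern (H : PBAll.{u}) (hE : ∀ i, FlatMod.IsFinLocFreeOfRank (rk i) (E i)) (i : Fin m)
    (hP : IsSetup P δP) {p : P ⟶ X} [IsProper p] [Flat p] (hδp : DeltaCompat p δP δX)
    (he : Shift p δP δX ((rk i : ℤ) - 1)) {O1 : P.Modules}
    {q : (Scheme.Modules.pullback p).obj (E i) ⟶ O1}
    (B : KRR.IsProjBundle p (E i) O1 q) {c : ℕ → G X δX} (hc : ChernRel hP hX p he O1 (rk i) c)
    (j : ℕ) (hj : j ≤ rk i) : S.pb (c j) = ec S.δ (S.Ls i) j (S.pb (c 0)) := by
  have h := S.pb_chern' H (Ls := (S.Ls i).reverse)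
    (fun L hL => S.inv i L (List.mem_reverse.1 hL)) (S.filt i).rf
    (by rw [List.length_reverse, S.length i]) (hE i) hP hδp he B hc j hj
  rwa [ec_reverse] at h

/-- Version for tuples of cycles. -/
theorem pb_chernCap (H : PBAll.{u}) (hE : ∀ i, FlatMod.IsFinLocFreeOfRank (rk i) (E i)) (i : Fin m)
    (hP : IsSetup P δP) {p : P ⟶ X} [IsProper p] (hδp : DeltaCompat p δP δX) {O1 : P.Modules}
    {q : (Scheme.Modules.pullback p).obj (E i) ⟶ O1}
    (B : KRR.IsProjBundle p (E i) O1 q) {k : ℤ} {α : AlgebraicCycle X ℤ}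
    {γ : Fin (rk i + 1) → AlgebraicCycle X ℤ} (hγ : IsChernCap p δX δP O1 (rk i) k α γ)
    (j : Fin (rk i + 1)) :
    S.pb (cl δX (γ j)) = ec S.δ (S.Ls i) j (S.pb (cl δX α)) := by
  have := PB.flat' (hE i) B
  have he := PB.shift (hE i) B hδp
  obtain ⟨h1, -, h3⟩ := (isChernCap_iff hP hX p he (PB.invertible B)).1 hγ
  have h4 := S.pb_chern H hE i hP hδp he B h3 j (by omega)
  rw [clT_fin, clT_of_lt γ (Nat.succ_pos _)] at h4
  rw [h4, ← h1]
  rfl

/-- Version for tuples of cycles and a module outside of the family. -/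
theorem pb_chernCap' (H : PBAll.{u}) {F : X.Modules} {Ls : List S.Y.Modules}
    (hLs : ∀ L ∈ Ls, PicF.IsInvertible L) (hF' : RF Ls ((Scheme.Modules.pullback S.π).obj F))
    {n : ℕ} (hn : Ls.length = n) (hF : FlatMod.IsFinLocFreeOfRank n F)
    (hP : IsSetup P δP) {p : P ⟶ X} [IsProper p] (hδp : DeltaCompat p δP δX) {O1 : P.Modules}
    {q : (Scheme.Modules.pullback p).obj F ⟶ O1}
    (B : KRR.IsProjBundle p F O1 q) {k : ℤ} {α : AlgebraicCycle X ℤ}
    {γ : Fin (n + 1) → AlgebraicCycle X ℤ} (hγ : IsChernCap p δX δP O1 n k α γ)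
    (j : Fin (n + 1)) :
    S.pb (cl δX (γ j)) = ec S.δ Ls j (S.pb (cl δX α)) := by
  have := PB.flat' hF B
  have he := PB.shift hF B hδp
  obtain ⟨h1, -, h3⟩ := (isChernCap_iff hP hX p he (PB.invertible B)).1 hγ
  have h4 := S.pb_chern' H hLs hF' hn hF hP hδp he B h3 j (by omega)
  rw [clT_fin, clT_of_lt γ (Nat.succ_pos _)] at h4
  rw [h4, ← h1]
  rfl

end Splitting

end K308.Grp
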