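import Groth.Agent.Cyc.K306.PBFormula
import Groth.Agent.Cyc.K308.Split

/-!
# The projective bundle formula for all projective bundles

`fibProj`: a projective bundle is a fibrewise projective space; `pbAll : PBAll`.
-/

set_option autoImplicit false
universe u v
open AlgebraicGeometry CategoryTheory CategoryTheory.Limits TopologicalSpace Opposite Cyc
open Groth.Agent.CycB Groth.Agent.CycB.C1Pull

namespace K308.Grp

variable {X Y P : Scheme.{u}} {δX : X → ℤ} {δY : Y → ℤ} {δP : P → ℤ}

theorem fibProj {r : ℕ} {p : P ⟶ X} {E : X.Modules}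
    (hE : FlatMod.IsFinLocFreeOfRank (r + 1) E) {O1 : P.Modules}
    {q : (Scheme.Modules.pullback p).obj E ⟶ O1} (B : KRR.IsProjBundle p E O1 q) :
    K306.FibProj p O1 r where
  proper := PB.isProper hE B
  flat := PB.flat hE B
  inv := PB.invertible B
  fib x := by
    obtain ⟨t⟩ := Groth.Agent.Krr.H483.PBTop.exists_triv_point hE x
    obtain ⟨j, hj, hO⟩ := Groth.Agent.Krr.H484.PBCharts.exists_chart B (A := X.residueField x)
      (X.fromSpecResidueField x) t
    exact ⟨j, hj, hO⟩

theorem itFun_eq_c1PowFun (δ : X → ℤ) (L : X.Modules) (t : ℕ → (ξ : X) → secFibre L ξ) (γ : X → ℤ)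
    (i : ℕ) : K306.ChowIt.itFun δ L t γ i = c1PowFun δ L t i γ := by
  induction i with
  | zero => rfl
  | succ i ih =>
    change c1CapFun δ L (K306.ChowIt.itFun δ L t γ i) (t i) = c1CapFun δ L (c1PowFun δ L t i γ) (t i)
    rw [ih]

theorem part_c1PowFun (hX : IsSetup X δX) {L : X.Modules} (hL : PicF.IsInvertible L)
    {t : ℕ → (ξ : X) → secFibre L ξ} (ht : ∀ m ξ, t m ξ ≠ 0) (α : AlgebraicCycle X ℤ) (i : ℕ)
    (β : AlgebraicCycle X ℤ) (hβ : ⇑β = c1PowFun δX L t i ⇑α) (k : ℤ) :
    ⇑(part δX (k - i) β) = c1PowFun δX L t i ⇑(part δX k α) := by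
  induction i generalizing β with
  | zero =>
    have : β = α := DFunLike.coe_injective hβ
    rw [this, Nat.cast_zero, sub_zero]
    rfl
  | succ i ih =>
    obtain ⟨β', h1, -, -⟩ := exists_powCycle hX hL ht α i
    have h2 : ⇑β = c1CapFun δX L ⇑β' (t i) := by rw [hβ, h1]; rfl
    have h3 := part_c1Cap L β' (t i) β h2 (k - ((i + 1 : ℕ) : ℤ))
    rw [h3, show k - ((i + 1 : ℕ) : ℤ) + 1 = k - i by push_cast; ring, ih β' h1]
    rfl

/-- The first part of the projective bundle formula for all projective bundles. -/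
theorem pbAll : PBAll.{u} := by
  intro X P δX δP hX hP n p E O1 q hE B hpr hfl hδ he a s
  obtain _ | r := n
  · exact ⟨fun h => absurd h (by omega), fun h => absurd h (by omega)⟩
  have hF := fibProj hE B
  have hO : PicF.IsInvertible O1 := PB.invertible B
  obtain ⟨α, rfl⟩ := cl_surjective δX a
  have ht : ∀ (m : ℕ) (ξ : P), (fun _ : ℕ => sec hO) m ξ ≠ 0 := fun _ => sec_ne_zero hO
  obtain ⟨β, h1, h2, -⟩ := exists_powCycle hP hO ht (pullCycle hP p he α) s
  have e1 : ((r + 1 : ℕ) : ℤ) - 1 = r := by push_cast; ring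
  have key : ∀ k : ℤ, ⇑(part δP (k + r - s) β) = K306.ChowIt.itFun δP O1 (fun _ => sec hO)
      (pullFun p δP δX r ⇑(part δX k α)) s := by
    intro k
    rw [part_c1PowFun hP hO ht _ s β h1 (k + r), itFun_eq_c1PowFun]
    congr 1
    rw [← e1]
    exact part_pull (coe_pullCycle hP p he α) k
  rw [pull_cl_pullCycle, ← h2, push_cl]
  constructor
  · intro hs
    rw [cl_eq_zero_iff']
    intro k
    have h3 := key (k - r + s)
    rw [show k - r + s + r - s = k by ring] at h3
    rw [part_map, K306.PBFormula.push_cap_eq_zero hF hP hδ hX (part_mem _ _ _) ht (by omega) h3]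
    exact DivFun.ratEquivZero_zero
  · intro hs
    have hs' : s = r := by omega
    subst hs'
    rw [cl_eq_iff']
    intro k
    have h3 := key k
    rw [show k + (s : ℤ) - s = k by ring] at h3
    rw [part_map, K306.PBFormula.push_cap_eq hF hP hδ hX (part_mem _ _ _) ht h3]
    unfold RatEquiv
    rw [sub_self]
    exact DivFun.ratEquivZero_zero

end K308.Grp
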