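import Groth.Agent.Cyc.K308.Grp
import Groth.Agent.CycB.C1Flat
import Groth.Agent.CycB.C1Push
import Groth.Agent.CycB.PushDivMain
import Groth.Agent.CycB.FlatRat
import Groth.Agent.CycB.FlatProper
import Groth.Agent.CycB.RelDim3
import Groth.Agent.CycB.C1Fin
import Groth.Agent.CycB.FlatLength
import Groth.Agent.S1855

/-!
# Flat pullback and proper pushforward on ungraded Chow groups

`Shift f δX δY c`: points generic in their fibre satisfy `δX x = δY (f x) + c`.
* `pull hX hY f hc : G Y δY →+ G X δX`, `pull_cl`, `pull_pull`, `pull_c1`;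
* `push hX hY f hδ : G X δX →+ G Y δY`, `push_cl`, `push_push`, `push_c1` (projection formula);
* `pull_push`: base change.
-/

set_option autoImplicit false
universe u v
open AlgebraicGeometry CategoryTheory CategoryTheory.Limits TopologicalSpace Opposite Cyc
open Groth.Agent.CycB Groth.Agent.CycB.DivFun Groth.Agent.CycB.C1Pull

namespace K308.Grp

variable {X Y Z : Scheme.{u}} {δX : X → ℤ} {δY : Y → ℤ} {δZ : Z → ℤ}

/-- Points of `X` generic in their fibre satisfy `δX x = δY (f x) + c`. -/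
def Shift (f : X ⟶ Y) (δX : X → ℤ) (δY : Y → ℤ) (c : ℤ) : Prop :=
  ∀ x : X, FlatDiv.FibGen f x → δX x = δY (f x) + c

theorem shift_of_hasRelDim {f : X ⟶ Y} [LocallyOfFiniteType f] {r : ℕ} (hr : HasRelDim f r)
    (hδ : DeltaCompat f δX δY) : Shift f δX δY r :=
  fun x hx => (RelDim.fibGeneric_iff_delta hr hδ x).1 hx

/-! ### flat pullback -/

theorem part_pull {f : X ⟶ Y} {c : ℤ} {α : AlgebraicCycle Y ℤ} {β : AlgebraicCycle X ℤ}
    (hβ : ⇑β = pullFun f δX δY c ⇑α) (k : ℤ) :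
    ⇑(part δX (k + c) β) = pullFun f δX δY c ⇑(part δY k α) := by
  funext x
  rw [part_apply, hβ, FlatLength.pullFun_apply, FlatLength.pullFun_apply, part_apply]
  by_cases h1 : δX x = δY (f x) + c
  · rw [if_pos h1, if_pos h1]
    by_cases h2 : δY (f x) = k
    · rw [if_pos h2, if_pos (by omega)]
    · rw [if_neg h2, if_neg (by omega), zero_mul]
  · rw [if_neg h1, if_neg h1, ite_self]

theorem pullFun_add' (f : X ⟶ Y) (c : ℤ) (α β : Y → ℤ) :
    pullFun f δX δY c (α + β) = pullFun f δX δY c α + pullFun f δX δY c β := by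
  funext x
  rw [Pi.add_apply, FlatLength.pullFun_apply, FlatLength.pullFun_apply,
    FlatLength.pullFun_apply, Pi.add_apply]
  split_ifs
  · rw [add_mul]
  · rw [add_zero]

theorem exists_pull (hX : IsSetup X δX) (f : X ⟶ Y) [Flat f] {c : ℤ}
    (hc : Shift f δX δY c) (α : AlgebraicCycle Y ℤ) :
    ∃ β : AlgebraicCycle X ℤ, ⇑β = pullFun f δX δY c ⇑α := by
  have := hX.1
  exact GenLocFin.exists_pullFun_cycle f c hX.2.2 hc α

noncomputable def pullCycle (hX : IsSetup X δX) (f : X ⟶ Y) [Flat f] {c : ℤ}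
    (hc : Shift f δX δY c) (α : AlgebraicCycle Y ℤ) : AlgebraicCycle X ℤ :=
  (exists_pull hX f hc α).choose

theorem coe_pullCycle (hX : IsSetup X δX) (f : X ⟶ Y) [Flat f] {c : ℤ}
    (hc : Shift f δX δY c) (α : AlgebraicCycle Y ℤ) :
    ⇑(pullCycle hX f hc α) = pullFun f δX δY c ⇑α :=
  (exists_pull hX f hc α).choose_spec

noncomputable def pullCycleHom (hX : IsSetup X δX) (f : X ⟶ Y) [Flat f] {c : ℤ}
    (hc : Shift f δX δY c) : AlgebraicCycle Y ℤ →+ AlgebraicCycle X ℤ :=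
  AddMonoidHom.mk' (pullCycle hX f hc) fun α β => by
    apply DFunLike.coe_injective
    rw [Function.locallyFinsuppWithin.coe_add, coe_pullCycle, coe_pullCycle, coe_pullCycle,
      Function.locallyFinsuppWithin.coe_add, pullFun_add']

theorem cl_pull_eq_zero (hX : IsSetup X δX) (hY : IsSetup Y δY) (f : X ⟶ Y) [Flat f] {c : ℤ}
    (hc : Shift f δX δY c) {α : AlgebraicCycle Y ℤ} (h : cl δY α = 0)
    {β : AlgebraicCycle X ℤ} (hβ : ⇑β = pullFun f δX δY c ⇑α) : cl δX β = 0 := by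
  rw [cl_eq_zero_iff'] at h ⊢
  intro k
  have h1 := part_pull hβ (k - c)
  rw [sub_add_cancel] at h1
  have h2 := FlatRat.ratEquivZero_pull f δY δX hY hX c hc (k - c) _ (h (k - c)) _ h1
  rwa [sub_add_cancel] at h2

/-- Flat pullback on Chow groups. -/
noncomputable def pull (hX : IsSetup X δX) (hY : IsSetup Y δY) (f : X ⟶ Y) [Flat f] {c : ℤ}
    (hc : Shift f δX δY c) : G Y δY →+ G X δX :=
  QuotientAddGroup.lift (R Y δY) ((cl δX).comp (pullCycleHom hX f hc)) fun α hα =>
    cl_pull_eq_zero hX hY f hc (cl_eq_zero_iff'.2 hα) (coe_pullCycle hX f hc α)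

theorem pull_cl_pullCycle (hX : IsSetup X δX) (hY : IsSetup Y δY) (f : X ⟶ Y) [Flat f] {c : ℤ}
    (hc : Shift f δX δY c) (α : AlgebraicCycle Y ℤ) :
    pull hX hY f hc (cl δY α) = cl δX (pullCycle hX f hc α) := rfl

theorem pull_cl (hX : IsSetup X δX) (hY : IsSetup Y δY) (f : X ⟶ Y) [Flat f] {c : ℤ}
    (hc : Shift f δX δY c) {α : AlgebraicCycle Y ℤ} {β : AlgebraicCycle X ℤ}
    (hβ : ⇑β = pullFun f δX δY c ⇑α) : pull hX hY f hc (cl δY α) = cl δX β := by
  have : β = pullCycle hX f hc α := DFunLike.coe_injective (by rw [hβ, coe_pullCycle])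
  rw [this]
  rfl

theorem Shift.comp {f : X ⟶ Y} {g : Y ⟶ Z} [Flat f] {c d : ℤ} (hf : Shift f δX δY c)
    (hg : Shift g δY δZ d) : Shift (f ≫ g) δX δZ (c + d) := by
  intro x hx
  have h1 : FlatDiv.FibGen f x := by
    intro x' h1 h2
    refine hx x' ?_ h2
    change g (f x') = g (f x)
    rw [h1]
  have h2 : FlatDiv.FibGen g (f x) := by
    intro y' hy' hsp
    obtain ⟨x', h3, h4⟩ := RelDim.exists_specializes_of_flat f hsp
    have h5 : x' = x := by
      refine hx x' ?_ h3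
      change g (f x') = g (f x)
      rw [h4, hy']
    rw [← h4, h5]
  rw [hf x h1, hg (f x) h2]
  change δZ (g (f x)) + d + c = δZ (g (f x)) + (c + d)
  ring

theorem pullFun_pullFun (hX : IsDimFun X δX) (hY : IsDimFun Y δY) (f : X ⟶ Y) (g : Y ⟶ Z)
    [Flat f] [Flat g] {c d : ℤ} (hf : Shift f δX δY c) (hg : Shift g δY δZ d) (α : Z → ℤ) :
    pullFun f δX δY c (pullFun g δY δZ d α) = pullFun (f ≫ g) δX δZ (c + d) α := by
  funext x
  rw [FlatLength.pullFun_apply, FlatLength.pullFun_apply, FlatLength.pullFun_apply]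
  have e : (f ≫ g) x = g (f x) := rfl
  rw [e, FlatLength.mult_comp]
  have h1 := FlatDiv.delta_le f c hX hf x
  have h2 := FlatDiv.delta_le g d hY hg (f x)
  by_cases h3 : δX x = δY (f x) + c
  · by_cases h4 : δY (f x) = δZ (g (f x)) + d
    · have h5 : δX x = δZ (g (f x)) + (c + d) := by omega
      rw [if_pos h3, if_pos h4, if_pos h5, ENat.toNat_mul]
      push_cast
      ring
    · have h5 : ¬ δX x = δZ (g (f x)) + (c + d) := by omega
      rw [if_pos h3, if_neg h4, if_neg h5, zero_mul]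
  · have h5 : ¬ δX x = δZ (g (f x)) + (c + d) := by omega
    rw [if_neg h3, if_neg h5]

theorem pull_pull (hX : IsSetup X δX) (hY : IsSetup Y δY) (hZ : IsSetup Z δZ) (f : X ⟶ Y)
    (g : Y ⟶ Z) [Flat f] [Flat g] {c d e : ℤ} (hf : Shift f δX δY c) (hg : Shift g δY δZ d)
    (hfg : Shift (f ≫ g) δX δZ e) (he : e = c + d) (a : G Z δZ) :
    pull hX hY f hf (pull hY hZ g hg a) = pull hX hZ (f ≫ g) hfg a := by
  subst he
  obtain ⟨α, rfl⟩ := cl_surjective δZ a
  rw [pull_cl_pullCycle, pull_cl_pullCycle, pull_cl_pullCycle]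
  congr 1
  apply DFunLike.coe_injective
  rw [coe_pullCycle, coe_pullCycle, coe_pullCycle, pullFun_pullFun hX.2.2 hY.2.2 f g hf hg]

/-- Flat pullback commutes with the first Chern class. -/
theorem pull_c1 (hX : IsSetup X δX) (hY : IsSetup Y δY) (f : X ⟶ Y) [Flat f] {c : ℤ}
    (hc : Shift f δX δY c) {L : Y.Modules} (hL : PicF.IsInvertible L)
    (hL' : PicF.IsInvertible ((Scheme.Modules.pullback f).obj L)) (a : G Y δY) :
    pull hX hY f hc (c1 hY hL a) = c1 hX hL' (pull hX hY f hc a) := by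
  have := hX.1
  have := hY.1
  obtain ⟨α, rfl⟩ := cl_surjective δY a
  rw [c1_cl_capCycle, pull_cl_pullCycle, pull_cl_pullCycle]
  symm
  refine c1_cl hX hL' (s := fun ξ' => fib f L ξ' (sec hL (f ξ'))) (fun ξ' _ =>
    fib_ne_zero f hL (sec_ne_zero hL _)) ?_
  rw [coe_pullCycle, coe_pullCycle, coe_capCycle,
    C1Flat.pullFun_c1CapFun f c hY.2.2 hX.2.2 hc hL α (sec hL) (fun ξ _ => sec_ne_zero hL ξ)]

/-! ### proper pushforward -/

theorem part_map {f : X ⟶ Y} [QuasiCompact f] (α : AlgebraicCycle X ℤ) (k : ℤ) :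
    part δY k (AlgebraicCycle.map f δX δY α) = AlgebraicCycle.map f δX δY (part δX k α) := by
  ext y
  rw [part_apply, Push.map_apply, Push.map_apply]
  split_ifs with h
  · refine finsum_mem_congr rfl fun x hx => ?_
    rw [part_apply]
    split_ifs with h'
    · rfl
    · have : AlgebraicCycle.mapCoeff f δX δY x = 0 := by
        unfold AlgebraicCycle.mapCoeff
        rw [if_neg]
        intro h2
        apply h'
        rw [h2, ← h]
        exact congrArg δY hx
      rw [this, Nat.cast_zero, mul_zero, zero_mul]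
  · symm
    apply finsum_mem_eq_zero_of_forall_eq_zero
    intro x hx
    rw [part_apply]
    split_ifs with h'
    · have : AlgebraicCycle.mapCoeff f δX δY x = 0 := by
        unfold AlgebraicCycle.mapCoeff
        rw [if_neg]
        intro h2
        apply h
        rw [← h', h2]
        exact (congrArg δY hx).symm
      rw [this, Nat.cast_zero, mul_zero]
    · rw [zero_mul]

noncomputable def mapHom (f : X ⟶ Y) [QuasiCompact f] (δX : X → ℤ) (δY : Y → ℤ) :
    AlgebraicCycle X ℤ →+ AlgebraicCycle Y ℤ :=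
  AddMonoidHom.mk' (AlgebraicCycle.map f δX δY) (PushRat.map_add δX δY f)

theorem map_zero' (f : X ⟶ Y) [QuasiCompact f] (δX : X → ℤ) (δY : Y → ℤ) :
    AlgebraicCycle.map f δX δY (0 : AlgebraicCycle X ℤ) = 0 := (mapHom f δX δY).map_zero

theorem cl_map_eq_zero (hX : IsSetup X δX) (hY : IsSetup Y δY) (f : X ⟶ Y) [IsProper f]
    (hδ : DeltaCompat f δX δY) {α : AlgebraicCycle X ℤ} (h : cl δX α = 0) :
    cl δY (AlgebraicCycle.map f δX δY α) = 0 := by
  rw [cl_eq_zero_iff'] at h ⊢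
  intro k
  rw [part_map]
  have h1 := Groth.Agent.S1855.result X Y δX δY hX hY f hδ k (part δX k α) 0 (part_mem _ _ _)
    (fun _ _ => rfl) (ratEquiv_zero_iff.2 (h k))
  rw [map_zero'] at h1
  exact ratEquiv_zero_iff.1 h1

/-- Proper pushforward on Chow groups. -/
noncomputable def push (hX : IsSetup X δX) (hY : IsSetup Y δY) (f : X ⟶ Y) [IsProper f]
    (hδ : DeltaCompat f δX δY) : G X δX →+ G Y δY :=
  QuotientAddGroup.lift (R X δX) ((cl δY).comp (mapHom f δX δY)) fun α hα =>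
    cl_map_eq_zero hX hY f hδ (cl_eq_zero_iff'.2 hα)

theorem push_cl (hX : IsSetup X δX) (hY : IsSetup Y δY) (f : X ⟶ Y) [IsProper f]
    (hδ : DeltaCompat f δX δY) (α : AlgebraicCycle X ℤ) :
    push hX hY f hδ (cl δX α) = cl δY (AlgebraicCycle.map f δX δY α) := rfl

theorem push_push (hX : IsSetup X δX) (hY : IsSetup Y δY) (hZ : IsSetup Z δZ) (f : X ⟶ Y)
    (g : Y ⟶ Z) [IsProper f] [IsProper g] (hf : DeltaCompat f δX δY) (hg : DeltaCompat g δY δZ)
    (hfg : DeltaCompat (f ≫ g) δX δZ) (a : G X δX) :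
    push hY hZ g hg (push hX hY f hf a) = push hX hZ (f ≫ g) hfg a := by
  obtain ⟨α, rfl⟩ := cl_surjective δX a
  rw [push_cl, push_cl, push_cl, Push.map_map δX δY δZ f g hf hg]

/-- The projection formula for the first Chern class. -/
theorem push_c1 (hX : IsSetup X δX) (hY : IsSetup Y δY) (f : X ⟶ Y) [IsProper f]
    (hδ : DeltaCompat f δX δY) {L : Y.Modules} (hL : PicF.IsInvertible L)
    (hL' : PicF.IsInvertible ((Scheme.Modules.pullback f).obj L)) (a : G X δX) :
    push hX hY f hδ (c1 hX hL' a) = c1 hY hL (push hX hY f hδ a) := by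
  have := hX.1
  have := hY.1
  obtain ⟨α, rfl⟩ := cl_surjective δX a
  have hs : ∀ ξ, fib f L ξ (sec hL (f ξ)) ≠ 0 := fun ξ => fib_ne_zero f hL (sec_ne_zero hL _)
  obtain ⟨γ, hγ⟩ := exists_cap hX hL' α hs
  rw [c1_cl hX hL' (fun ξ _ => hs ξ) hγ, push_cl, push_cl]
  symm
  refine c1_cl hY hL (s := sec hL) (fun ξ _ => sec_ne_zero hL ξ) ?_
  funext y
  exact C1Push.map_c1Cap f (PushDivMain.pushDiv f hX hY hδ) hX.2.2 hY.2.2 hδ hL α (sec hL)
    (sec_ne_zero hL) γ hγ y

/-- Base change: flat pullback commutes with proper pushforward. -/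
theorem pull_push {X' Y' : Scheme.{u}} {δX' : X' → ℤ} {δY' : Y' → ℤ} (hX : IsSetup X δX)
    (hY : IsSetup Y δY) (hX' : IsSetup X' δX') (hY' : IsSetup Y' δY') {f' : X' ⟶ Y'} {q : X' ⟶ X}
    {p : Y' ⟶ Y} {f : X ⟶ Y} (h : IsPullback f' q p f) [IsProper f] [IsProper f'] [Flat p]
    [Flat q] (hf : DeltaCompat f δX δY) (hf' : DeltaCompat f' δX' δY') {c : ℤ}
    (hp : Shift p δY' δY c) (hq : Shift q δX' δX c) (a : G X δX) :
    pull hY' hY p hp (push hX hY f hf a) = push hX' hY' f' hf' (pull hX' hX q hq a) := by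
  have := hX.1
  have := hX'.1
  have := hY.1
  have := hY'.1
  obtain ⟨α, rfl⟩ := cl_surjective δX a
  rw [push_cl, pull_cl_pullCycle, pull_cl_pullCycle, push_cl]
  congr 1
  apply DFunLike.coe_injective
  rw [coe_pullCycle]
  exact FlatProper.pullFun_map_eq h δY δY' δX δX' hf hf' c hp α _ (coe_pullCycle hX' q hq α)

end K308.Grp
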