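import Groth.Agent.Cyc.K308.ChernG
import Groth.Agent.Cyc.K308.PBBasic
import Groth.Agent.CycB.SetupLft
import Groth.Agent.Krr.H490.PBExist
import Groth.Agent.Krr.H484.PBTransport
import Groth.Agent.Krr.H487.KerRank
import Groth.Agent.Sga67.FlatPre
import Groth.Agent.Vancyc.H878.Triv

/-!
# Towers of projective bundles and the splitting principle

* `IsTower f d`: `f` is a finite composite of projective bundles of fibre dimensions adding up to
  `d` (and isomorphisms); `IsTower.isProper`, `IsTower.smooth`, `IsTower.trans`,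
  `IsTower.baseChange`;
* `SF Ls E`: `E` has a filtration with successive quotients the members of `Ls` (top quotient
  first), `SF.pullback` (flat), `SF.rf`;
* `exists_tower`: for finitely many finite locally free modules there is a tower over which all of
  them are filtered by invertible modules.
-/

set_option autoImplicit false
universe u v
open AlgebraicGeometry CategoryTheory CategoryTheory.Limits TopologicalSpace Opposite Cyc
open Groth.Agent.CycB Groth.Agent.CycB.C1Pull

namespace K308.Grp

/-- Finite composites of projective bundles. -/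
inductive IsTower : ∀ {P X : Scheme.{u}}, (P ⟶ X) → ℕ → Prop
  | iso {P X : Scheme.{u}} (f : P ⟶ X) (hf : IsIso f) : IsTower f 0
  | cons {P' P X : Scheme.{u}} (g : P' ⟶ P) (f : P ⟶ X) (h : P' ⟶ X) (e : g ≫ f = h) {d r : ℕ}
      (hf : IsTower f d) {E : P.Modules} (hE : FlatMod.IsFinLocFreeOfRank (r + 1) E)
      {O1 : P'.Modules} {q : (Scheme.Modules.pullback g).obj E ⟶ O1}
      (B : KRR.IsProjBundle g E O1 q) : IsTower h (d + r)

variable {X Y P : Scheme.{u}}

theorem IsTower.isProper {f : P ⟶ X} {d : ℕ} (h : IsTower f d) : IsProper f := by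
  induction h with
  | iso f hf => infer_instance
  | cons g f h e hf hE B ih =>
    have := PB.isProper hE B
    rw [← e]
    infer_instance

theorem IsTower.smooth {f : P ⟶ X} {d : ℕ} (h : IsTower f d) : SmoothOfRelativeDimension d f := by
  induction h with
  | iso f hf => infer_instance
  | cons g f h e hf hE B ih =>
    have := PB.smoothOfRelativeDimension hE B
    rw [← e, add_comm]
    infer_instance

theorem IsTower.flat {f : P ⟶ X} {d : ℕ} (h : IsTower f d) : Flat f := by
  have := h.smooth
  have := SmoothOfRelativeDimension.smooth d f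
  infer_instance

theorem IsTower.hasRelDim {f : P ⟶ X} {d : ℕ} (h : IsTower f d) : HasRelDim f d := by
  have := h.smooth
  exact PB.hasRelDim_of_smooth f

theorem IsTower.iso_comp {Q P X : Scheme.{u}} {g : Q ⟶ P} (hg : IsIso g) {f : P ⟶ X} {d : ℕ}
    (hf : IsTower f d) : IsTower (g ≫ f) d := by
  cases hf with
  | iso f hf => exact IsTower.iso _ inferInstance
  | cons g' f' h' e hf' hE B =>
    have sq : IsPullback g (g ≫ g') g' (𝟙 _) := IsPullback.of_horiz_isIso ⟨by simp⟩
    have B' := Groth.Agent.Krr.H484.PBTransport.baseChange sq B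
    refine IsTower.cons (g ≫ g') f' (g ≫ _) ?_ hf'
      (Groth.Agent.Vancyc.H878.Triv.isFinLocFreeOfRank_pullback _ hE) B'
    rw [Category.assoc, e]

theorem IsTower.trans {Q P X : Scheme.{u}} {g : Q ⟶ P} {f : P ⟶ X} {d d' : ℕ} (hf : IsTower f d)
    (hg : IsTower g d') : IsTower (g ≫ f) (d + d') := by
  induction hg with
  | iso g hg => exact hf.iso_comp hg
  | cons g' f' h' e hf' hE B ih =>
    rw [← add_assoc]
    refine IsTower.cons g' (f' ≫ f) _ ?_ (ih hf) hE B
    rw [← Category.assoc, e]

theorem IsTower.baseChange {P X : Scheme.{u}} {f : P ⟶ X} {d : ℕ} (hf : IsTower f d)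
    {Y PY : Scheme.{u}} {h : Y ⟶ X} {g : PY ⟶ P} {f' : PY ⟶ Y} (sq : IsPullback g f' f h) :
    IsTower f' d := by
  induction hf generalizing Y PY with
  | iso f hf =>
    refine IsTower.iso _ ?_
    exact MorphismProperty.of_isPullback (P := MorphismProperty.isomorphisms Scheme.{u}) sq hf
  | cons g1 f1 h1 e hf1 hE B ih =>
    subst e
    let l : PY ⟶ Limits.pullback f1 h := Limits.pullback.lift (g ≫ g1) f' (by
      rw [Category.assoc, sq.w])
    have sq1 : IsPullback (Limits.pullback.fst f1 h) (Limits.pullback.snd f1 h) f1 h :=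
      IsPullback.of_hasPullback f1 h
    have hl : l ≫ Limits.pullback.snd f1 h = f' := Limits.pullback.lift_snd _ _ _
    have hl' : l ≫ Limits.pullback.fst f1 h = g ≫ g1 := Limits.pullback.lift_fst _ _ _
    have sq2 : IsPullback g l g1 (Limits.pullback.fst f1 h) := by
      refine IsPullback.of_bot ?_ hl'.symm sq1
      rw [hl]
      exact sq
    exact IsTower.cons l _ _ hl (ih sq1)
      (Groth.Agent.Vancyc.H878.Triv.isFinLocFreeOfRank_pullback _ hE)
      (Groth.Agent.Krr.H484.PBTransport.baseChange sq2 B)

/-! ### filtrations with invertible quotients -/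

/-- `E` has a filtration with successive quotients the members of the list, top quotient first. -/
def SF : List X.Modules → X.Modules → Prop
  | [], E => IsZero E
  | (L :: Ls), E => ∃ (K : X.Modules) (a : K ⟶ E) (b : E ⟶ L) (hab : a ≫ b = 0),
      (ShortComplex.mk a b hab).ShortExact ∧ SF Ls K

theorem SF.iso {Ls : List X.Modules} {E F : X.Modules} (h : SF Ls E) (e : E ≅ F) : SF Ls F := by
  cases Ls with
  | nil => exact IsZero.of_iso h e.symm
  | cons L Ls =>
    obtain ⟨K, a, b, hab, hS, hK⟩ := h
    refine ⟨K, a ≫ e.hom, e.inv ≫ b, by simp [hab], ?_, hK⟩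
    exact ShortComplex.shortExact_of_iso (S₁ := ShortComplex.mk a b hab)
      (S₂ := ShortComplex.mk (a ≫ e.hom) (e.inv ≫ b) (by simp [hab]))
      (ShortComplex.isoMk (Iso.refl _) e (Iso.refl _) (by simp) (by simp)) hS

theorem SF.pullback {Ls : List X.Modules} {E : X.Modules} (h : SF Ls E) (f : Y ⟶ X) [Flat f] :
    SF (Ls.map (Scheme.Modules.pullback f).obj) ((Scheme.Modules.pullback f).obj E) := by
  induction Ls generalizing E with
  | nil => exact Functor.map_isZero _ h
  | cons L Ls ih =>
    obtain ⟨K, a, b, hab, hS, hK⟩ := h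
    have := Groth.Agent.Sga67.FlatPre.preservesFiniteLimits_pullback f
    exact ⟨_, (Scheme.Modules.pullback f).map a, (Scheme.Modules.pullback f).map b, _,
      hS.map_of_exact (Scheme.Modules.pullback f), ih hK⟩

theorem RF.append_singleton {Ls : List X.Modules} {A B L : X.Modules} (hA : RF Ls A) (a : A ⟶ B)
    (b : B ⟶ L) (hab : a ≫ b = 0) (hc : (ShortComplex.mk a b hab).Exact) [Epi b] :
    RF (Ls ++ [L]) B := by
  refine RF.ext hA (C := L) (Ms := [L]) ⟨𝟙 L, ?_⟩ a b hab hc
  exact isZero_cokernel_of_epi (𝟙 L)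

theorem SF.rf {Ls : List X.Modules} {E : X.Modules} (h : SF Ls E) : RF Ls.reverse E := by
  induction Ls generalizing E with
  | nil => exact h
  | cons L Ls ih =>
    obtain ⟨K, a, b, hab, hS, hK⟩ := h
    rw [List.reverse_cons]
    have := hS.epi_g
    exact RF.append_singleton (ih hK) a b hab hS.exact

/-- The splitting principle for one module. -/
theorem exists_tower_one (n : ℕ) : ∀ {X : Scheme.{u}} (E : X.Modules)
    (_ : FlatMod.IsFinLocFreeOfRank n E), ∃ (P : Scheme.{u}) (π : P ⟶ X) (d : ℕ) (Ls : List P.Modules),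
      IsTower π d ∧ Ls.length = n ∧ (∀ L ∈ Ls, PicF.IsInvertible L) ∧
        SF Ls ((Scheme.Modules.pullback π).obj E) := by
  induction n with
  | zero =>
    intro X E hE
    refine ⟨X, 𝟙 X, 0, [], IsTower.iso _ inferInstance, rfl, by simp, ?_⟩
    exact Functor.map_isZero _ (PB.isZero_of_rank_zero hE)
  | succ n ih =>
    intro X E hE
    obtain ⟨P, g, O1, q, B⟩ := Groth.Agent.Krr.H490.PBExist.exists_isProjBundle hE
    have := B.epi
    let S : ShortComplex P.Modules := ShortComplex.mk (kernel.ι q) q (kernel.condition q)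
    have hS : S.ShortExact := { exact := ShortComplex.exact_kernel q }
    have hK : FlatMod.IsFinLocFreeOfRank n (kernel q) :=
      Groth.Agent.Krr.H487.KerRank.isFinLocFreeOfRank_left (S := S) hS
        (Groth.Agent.Vancyc.H878.Triv.isFinLocFreeOfRank_pullback g hE) B.invertible
    obtain ⟨P', f, d, Ls, hf, hlen, hLs, hSF⟩ := ih (kernel q) hK
    have := hf.flat
    have := Groth.Agent.Sga67.FlatPre.preservesFiniteLimits_pullback f
    refine ⟨P', f ≫ g, 0 + n + d, (Scheme.Modules.pullback f).obj O1 :: Ls,
      IsTower.trans (IsTower.cons g (𝟙 X) g (by simp) (IsTower.iso _ inferInstance) hE B) hf,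
      by rw [List.length_cons, hlen], ?_, ?_⟩
    · intro L hL
      rw [List.mem_cons] at hL
      rcases hL with rfl | hL
      · exact isInvertible_pullback f (PB.invertible B)
      · exact hLs L hL
    · have h1 : SF ((Scheme.Modules.pullback f).obj O1 :: Ls)
          ((Scheme.Modules.pullback f).obj ((Scheme.Modules.pullback g).obj E)) :=
        ⟨_, _, _, _, hS.map_of_exact (Scheme.Modules.pullback f), hSF⟩
      exact h1.iso ((Scheme.Modules.pullbackComp f g).app E)

/-- The splitting principle for finitely many modules. -/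
theorem exists_tower (m : ℕ) {X : Scheme.{u}} (E : Fin m → X.Modules) (rk : Fin m → ℕ)
    (hE : ∀ i, FlatMod.IsFinLocFreeOfRank (rk i) (E i)) :
    ∃ (P : Scheme.{u}) (π : P ⟶ X) (d : ℕ) (Ls : Fin m → List P.Modules),
      IsTower π d ∧ ∀ i, (Ls i).length = rk i ∧ (∀ L ∈ Ls i, PicF.IsInvertible L) ∧
        SF (Ls i) ((Scheme.Modules.pullback π).obj (E i)) := by
  induction m with
  | zero => exact ⟨X, 𝟙 X, 0, fun i => i.elim0, IsTower.iso _ inferInstance, fun i => i.elim0⟩
  | succ m ih =>
    obtain ⟨P, π, d, Ls, hπ, H⟩ := ih (fun i => E i.castSucc) (fun i => rk i.castSucc)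
      (fun i => hE i.castSucc)
    obtain ⟨P', f, d', Ls', hf, hlen, hLs, hSF⟩ := exists_tower_one (rk (Fin.last m))
      ((Scheme.Modules.pullback π).obj (E (Fin.last m)))
      (Groth.Agent.Vancyc.H878.Triv.isFinLocFreeOfRank_pullback π (hE _))
    have := hf.flat
    refine ⟨P', f ≫ π, d + d', Fin.lastCases Ls' (fun i => (Ls i).map (Scheme.Modules.pullback f).obj),
      hπ.trans hf, ?_⟩
    intro i
    induction i using Fin.lastCases with
    | last =>
      simp only [Fin.lastCases_last]
      exact ⟨hlen, hLs, hSF.iso ((Scheme.Modules.pullbackComp f π).app _)⟩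
    | cast i =>
      simp only [Fin.lastCases_castSucc]
      obtain ⟨h1, h2, h3⟩ := H i
      refine ⟨by rw [List.length_map, h1], ?_, ?_⟩
      · intro L hL
        rw [List.mem_map] at hL
        obtain ⟨L', hL', rfl⟩ := hL
        exact isInvertible_pullback f (h2 L' hL')
      · exact (h3.pullback f).iso ((Scheme.Modules.pullbackComp f π).app _)

end K308.Grp
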