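import Groth.Agent.CycB.CapComm
import Groth.Agent.CycB.KeyZero
import Groth.Agent.S1922

/-!
# The ungraded Chow group of a scheme with a dimension function

`G X δ` is the group of all cycles (locally finite integral combinations of points) modulo the
cycles all of whose homogeneous parts are rationally equivalent to zero. There is no index: the
operations of intersection theory are plain additive maps.

* `part δ k α`: the part of `δ`-dimension `k` of a cycle;
* `cl : AlgebraicCycle X ℤ →+ G X δ`, `cl_eq_zero_iff`, `cl_eq_iff`: on `k`-cycles equality of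
  classes is `Cyc.RatEquiv`;
* `c1 hX hL : G X δ →+ G X δ`: the first Chern class of an invertible module, `c1_cl`, `c1_comm`.
-/

set_option autoImplicit false
universe u v
open AlgebraicGeometry CategoryTheory CategoryTheory.Limits TopologicalSpace Opposite Cyc
open Groth.Agent.CycB Groth.Agent.CycB.DivFun

namespace K308.Grp

variable {X : Scheme.{u}} {δ : X → ℤ} {k : ℤ}

/-- The part of `δ`-dimension `k` of a cycle. -/
noncomputable def part (δ : X → ℤ) (k : ℤ) (α : AlgebraicCycle X ℤ) : AlgebraicCycle X ℤ where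
  toFun x := if δ x = k then α x else 0
  supportWithinDomain' := by simp
  supportLocallyFiniteWithinDomain' x hx := by
    obtain ⟨t, ht, hfin⟩ := α.supportLocallyFiniteWithinDomain' x hx
    refine ⟨t, ht, hfin.subset ?_⟩
    rintro y ⟨hy, hy'⟩
    refine ⟨hy, fun h => hy' ?_⟩
    change (if δ y = k then α y else 0) = 0
    rw [show α y = 0 from h, ite_self]

theorem part_apply (δ : X → ℤ) (k : ℤ) (α : AlgebraicCycle X ℤ) (x : X) :
    part δ k α x = if δ x = k then α x else 0 := rfl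

theorem coe_part (δ : X → ℤ) (k : ℤ) (α : AlgebraicCycle X ℤ) :
    ⇑(part δ k α) = fun x => if δ x = k then α x else 0 := rfl

theorem part_mem (δ : X → ℤ) (k : ℤ) (α : AlgebraicCycle X ℤ) : part δ k α ∈ Zk X δ k := by
  intro x hx
  rw [part_apply, if_neg hx]

theorem part_add (δ : X → ℤ) (k : ℤ) (α β : AlgebraicCycle X ℤ) :
    part δ k (α + β) = part δ k α + part δ k β := by
  ext x
  rw [Function.locallyFinsuppWithin.coe_add, Pi.add_apply, part_apply, part_apply, part_apply,
    Function.locallyFinsuppWithin.coe_add, Pi.add_apply]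
  split_ifs <;> simp

theorem part_zero (δ : X → ℤ) (k : ℤ) : part δ k (0 : AlgebraicCycle X ℤ) = 0 := by
  ext x
  rw [part_apply]
  simp

theorem part_neg (δ : X → ℤ) (k : ℤ) (α : AlgebraicCycle X ℤ) :
    part δ k (-α) = -part δ k α := by
  ext x
  rw [Function.locallyFinsuppWithin.coe_neg, Pi.neg_apply, part_apply, part_apply,
    Function.locallyFinsuppWithin.coe_neg, Pi.neg_apply]
  split_ifs <;> simp

theorem part_sub (δ : X → ℤ) (k : ℤ) (α β : AlgebraicCycle X ℤ) :
    part δ k (α - β) = part δ k α - part δ k β := by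
  rw [sub_eq_add_neg, part_add, part_neg, ← sub_eq_add_neg]

theorem part_of_mem {α : AlgebraicCycle X ℤ} (hα : α ∈ Zk X δ k) : part δ k α = α := by
  ext x
  rw [part_apply]
  split_ifs with h
  · rfl
  · exact (hα x h).symm

theorem part_of_mem_ne {α : AlgebraicCycle X ℤ} (hα : α ∈ Zk X δ k) {j : ℤ} (h : j ≠ k) :
    part δ j α = 0 := by
  ext x
  rw [part_apply]
  split_ifs with h'
  · rw [hα x (fun h'' => h (h'.symm.trans h''))]; rfl
  · rfl

/-- The subgroup of the cycles all of whose parts are rationally equivalent to zero. -/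
def R (X : Scheme.{u}) (δ : X → ℤ) : AddSubgroup (AlgebraicCycle X ℤ) where
  carrier := {α | ∀ k, RatEquivZero δ k (part δ k α)}
  zero_mem' := fun k => by rw [part_zero]; exact ratEquivZero_zero
  add_mem' := fun ha hb k => by rw [part_add]; exact RatEquivZero.add (ha k) (hb k)
  neg_mem' := fun ha k => by rw [part_neg]; exact RatEquivZero.neg (ha k)

theorem mem_R {α : AlgebraicCycle X ℤ} :
    α ∈ R X δ ↔ ∀ k, RatEquivZero δ k (part δ k α) := Iff.rfl

/-- The ungraded Chow group of `X`. -/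
def G (X : Scheme.{u}) (δ : X → ℤ) : Type u := AlgebraicCycle X ℤ ⧸ R X δ

noncomputable instance : AddCommGroup (G X δ) :=
  inferInstanceAs (AddCommGroup (AlgebraicCycle X ℤ ⧸ R X δ))

/-- The class of a cycle. -/
noncomputable def cl (δ : X → ℤ) : AlgebraicCycle X ℤ →+ G X δ := QuotientAddGroup.mk' (R X δ)

theorem cl_surjective (δ : X → ℤ) : Function.Surjective (cl (X := X) δ) :=
  QuotientAddGroup.mk'_surjective _

theorem cl_eq_zero_iff' {α : AlgebraicCycle X ℤ} :
    cl δ α = 0 ↔ ∀ k, RatEquivZero δ k (part δ k α) := by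
  change (QuotientAddGroup.mk' (R X δ)) α = 0 ↔ _
  rw [QuotientAddGroup.mk'_apply, QuotientAddGroup.eq_zero_iff, mem_R]

theorem mem_R_iff_of_mem {α : AlgebraicCycle X ℤ} (hα : α ∈ Zk X δ k) :
    (∀ j, RatEquivZero δ j (part δ j α)) ↔ RatEquivZero δ k α := by
  constructor
  · intro h
    have := h k
    rwa [part_of_mem hα] at this
  · intro h j
    by_cases hj : j = k
    · subst hj
      rwa [part_of_mem hα]
    · rw [part_of_mem_ne hα hj]
      exact ratEquivZero_zero

theorem cl_eq_zero_iff {α : AlgebraicCycle X ℤ} (hα : α ∈ Zk X δ k) :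
    cl δ α = 0 ↔ RatEquivZero δ k α := by
  rw [cl_eq_zero_iff', mem_R_iff_of_mem hα]

theorem cl_eq_zero_of_ratEquivZero {α : AlgebraicCycle X ℤ} (h : RatEquivZero δ k α) :
    cl δ α = 0 := (cl_eq_zero_iff (RatEquivZero.mem_Zk h)).2 h

theorem cl_eq_iff' {α β : AlgebraicCycle X ℤ} :
    cl δ α = cl δ β ↔ ∀ k, RatEquiv δ k (part δ k α) (part δ k β) := by
  rw [← sub_eq_zero, ← map_sub, cl_eq_zero_iff']
  refine forall_congr' fun k => ?_
  rw [part_sub]
  rfl

theorem sub_mem_Zk {α β : AlgebraicCycle X ℤ} (hα : α ∈ Zk X δ k) (hβ : β ∈ Zk X δ k) :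
    α - β ∈ Zk X δ k := by
  intro x hx
  rw [Function.locallyFinsuppWithin.coe_sub, Pi.sub_apply, hα x hx, hβ x hx, sub_zero]

theorem cl_eq_iff {α β : AlgebraicCycle X ℤ} (hα : α ∈ Zk X δ k) (hβ : β ∈ Zk X δ k) :
    cl δ α = cl δ β ↔ RatEquiv δ k α β := by
  rw [← sub_eq_zero, ← map_sub, cl_eq_zero_iff (sub_mem_Zk hα hβ)]
  rfl

theorem cl_eq_of_ratEquiv {α β : AlgebraicCycle X ℤ} (h : RatEquiv δ k α β) :
    cl δ α = cl δ β := by
  rw [← sub_eq_zero, ← map_sub]
  exact cl_eq_zero_of_ratEquivZero h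

/-! ### first Chern classes of invertible modules -/

section C1

variable {L N : X.Modules}

theorem part_c1Cap (L : X.Modules) (α : AlgebraicCycle X ℤ) (s : (ξ : X) → secFibre L ξ)
    (γ : AlgebraicCycle X ℤ) (hγ : ⇑γ = c1CapFun δ L ⇑α s) (k : ℤ) :
    ⇑(part δ k γ) = c1CapFun δ L ⇑(part δ (k + 1) α) s := by
  funext x
  rw [part_apply, hγ, C1Cap.c1CapFun_apply, C1Cap.c1CapFun_apply]
  split_ifs with h
  · refine finsum_congr fun ξ => ?_
    rw [part_apply]
    split_ifs with h'
    · rfl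
    · have : secDivFun δ L ξ (s ξ) x = 0 := by
        by_contra hcon
        have := (C1Cap.secDivFun_ne_zero hcon).2
        exact h' (by omega)
      rw [this, mul_zero, mul_zero]
  · symm
    refine finsum_eq_zero_of_forall_eq_zero fun ξ => ?_
    rw [part_apply]
    split_ifs with h'
    · have : secDivFun δ L ξ (s ξ) x = 0 := by
        by_contra hcon
        have := (C1Cap.secDivFun_ne_zero hcon).2
        exact h (by omega)
      rw [this, mul_zero]
    · rw [zero_mul]

/-- nowhere zero rational sections of an invertible module -/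
noncomputable def sec (hL : PicF.IsInvertible L) : (ξ : X) → secFibre L ξ :=
  (CapComm.exists_nonzero hL).choose

theorem sec_ne_zero (hL : PicF.IsInvertible L) (ξ : X) : sec hL ξ ≠ 0 :=
  (CapComm.exists_nonzero hL).choose_spec ξ

/-- `c_1(L) ∩ α` as a cycle, for any nowhere zero sections. -/
theorem exists_cap (hX : IsSetup X δ) (hL : PicF.IsInvertible L) (α : AlgebraicCycle X ℤ)
    {s : (ξ : X) → secFibre L ξ} (hs : ∀ ξ, s ξ ≠ 0) :
    ∃ γ : AlgebraicCycle X ℤ, ⇑γ = c1CapFun δ L ⇑α s := by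
  have := hX.1
  exact CapComm.exists_cycle_c1CapFun hX.2.2 hL α hs

noncomputable def capCycle (hX : IsSetup X δ) (hL : PicF.IsInvertible L)
    (α : AlgebraicCycle X ℤ) : AlgebraicCycle X ℤ := (exists_cap hX hL α (sec_ne_zero hL)).choose

theorem coe_capCycle (hX : IsSetup X δ) (hL : PicF.IsInvertible L) (α : AlgebraicCycle X ℤ) :
    ⇑(capCycle hX hL α) = c1CapFun δ L ⇑α (sec hL) :=
  (exists_cap hX hL α (sec_ne_zero hL)).choose_spec

/-- the first Chern class on cycles -/
noncomputable def capHom (hX : IsSetup X δ) (hL : PicF.IsInvertible L) :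
    AlgebraicCycle X ℤ →+ AlgebraicCycle X ℤ :=
  AddMonoidHom.mk' (capCycle hX hL) fun α β => by
    apply DFunLike.coe_injective
    rw [Function.locallyFinsuppWithin.coe_add, coe_capCycle, coe_capCycle, coe_capCycle,
      Function.locallyFinsuppWithin.coe_add, C1Cap.c1CapFun_add]

theorem cl_capCycle_eq_zero (hX : IsSetup X δ) (hL : PicF.IsInvertible L)
    {α : AlgebraicCycle X ℤ} (h : cl δ α = 0) : cl δ (capCycle hX hL α) = 0 := by
  have := hX.1
  rw [cl_eq_zero_iff'] at h ⊢
  intro k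
  exact KeyZero.ratEquivZero_c1Cap hX.2.2 hL (h (k + 1)) (sec_ne_zero hL)
    (part_c1Cap L α _ _ (coe_capCycle hX hL α) k)

/-- The first Chern class `c_1(L)` as an endomorphism of the Chow group. -/
noncomputable def c1 (hX : IsSetup X δ) (hL : PicF.IsInvertible L) : AddMonoid.End (G X δ) :=
  QuotientAddGroup.lift (R X δ) ((cl δ).comp (capHom hX hL)) fun α hα =>
    cl_capCycle_eq_zero hX hL (cl_eq_zero_iff'.2 hα)

theorem c1_cl_capCycle (hX : IsSetup X δ) (hL : PicF.IsInvertible L) (α : AlgebraicCycle X ℤ) :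
    c1 hX hL (cl δ α) = cl δ (capCycle hX hL α) := rfl

/-- Change of sections. -/
theorem cl_eq_of_cap (hL : PicF.IsInvertible L) {α : AlgebraicCycle X ℤ}
    {s s' : (ξ : X) → secFibre L ξ} (hs : ∀ ξ, α ξ ≠ 0 → s ξ ≠ 0) (hs' : ∀ ξ, α ξ ≠ 0 → s' ξ ≠ 0)
    {γ γ' : AlgebraicCycle X ℤ} (hγ : ⇑γ = c1CapFun δ L ⇑α s) (hγ' : ⇑γ' = c1CapFun δ L ⇑α s') :
    cl δ γ = cl δ γ' := by
  rw [cl_eq_iff']
  intro k
  refine C1Cap.ratEquiv_of_c1CapFun hL k (part δ (k + 1) α) (part_mem _ _ _) s s' ?_ ?_ _ _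
    (part_c1Cap L α s γ hγ k) (part_c1Cap L α s' γ' hγ' k)
  · intro ξ hξ
    refine hs ξ fun h => hξ ?_
    rw [part_apply, h, ite_self]
  · intro ξ hξ
    refine hs' ξ fun h => hξ ?_
    rw [part_apply, h, ite_self]

/-- `c_1(L)` can be computed with any rational sections nonzero on the support of the cycle. -/
theorem c1_cl (hX : IsSetup X δ) (hL : PicF.IsInvertible L) {α γ : AlgebraicCycle X ℤ}
    {s : (ξ : X) → secFibre L ξ} (hs : ∀ ξ, α ξ ≠ 0 → s ξ ≠ 0)
    (hγ : ⇑γ = c1CapFun δ L ⇑α s) : c1 hX hL (cl δ α) = cl δ γ :=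
  cl_eq_of_cap hL (fun ξ _ => sec_ne_zero hL ξ) hs (coe_capCycle hX hL α) hγ

/-- First Chern classes commute. -/
theorem c1_comm (hX : IsSetup X δ) (hL : PicF.IsInvertible L) (hN : PicF.IsInvertible N)
    (a : G X δ) : c1 hX hL (c1 hX hN a) = c1 hX hN (c1 hX hL a) := by
  obtain ⟨α, rfl⟩ := cl_surjective δ a
  rw [c1_cl_capCycle, c1_cl_capCycle, c1_cl_capCycle, c1_cl_capCycle, cl_eq_iff']
  intro k
  refine Groth.Agent.S1922.result X δ hX L N hL hN k (part δ (k + 2) α) (part_mem _ _ _)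
    (sec hL) (sec hL) (sec hN) (sec hN) (sec_ne_zero hL) (sec_ne_zero hL) (sec_ne_zero hN)
    (sec_ne_zero hN) _ _ ?_ ?_
  · rw [part_c1Cap L _ _ _ (coe_capCycle hX hL _) k,
      part_c1Cap N _ _ _ (coe_capCycle hX hN _) (k + 1), add_assoc]
    norm_num
  · rw [part_c1Cap N _ _ _ (coe_capCycle hX hN _) k,
      part_c1Cap L _ _ _ (coe_capCycle hX hL _) (k + 1), add_assoc]
    norm_num

theorem c1_mul_comm (hX : IsSetup X δ) (hL : PicF.IsInvertible L) (hN : PicF.IsInvertible N) :
    c1 hX hL * c1 hX hN = c1 hX hN * c1 hX hL :=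
  AddMonoidHom.ext (c1_comm hX hL hN)

/-- Homogeneous classes. -/
def Hk (δ : X → ℤ) (k : ℤ) (a : G X δ) : Prop := ∃ α ∈ Zk X δ k, cl δ α = a

end C1

end K308.Grp
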