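import Groth.Agent.Cyc.K307.Chern
import Groth.Agent.Cyc.K308.ECap
import Groth.Agent.Cyc.K308.Chain

/-!
# Chern operators of filtered modules

The Chern operators `K307.chE` of a module filtered by invertible modules are the elementary
symmetric functions `ec` of the first Chern classes.
-/

set_option autoImplicit false

universe u

open AlgebraicGeometry CategoryTheory CategoryTheory.Limits TopologicalSpace Cyc
open Groth.Agent.CycB Groth.Agent.CycB.DivFun

namespace K308.Grp

variable {X : Scheme.{u}} {δ : X → ℤ}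

theorem rel_eq_zero_iff {r : ℕ} (B : K307.Bun X δ r) (c : ℕ → G X δ) :
    B.rel c = 0 ↔ ChernRel B.setup B.base B.p B.shift B.O1 r c := by
  unfold ChernRel K307.Bun.rel K307.Bun.xi K307.Bun.pl
  rw [C1_eq B.setup B.inv]

/-- The Chern operators of a module filtered by invertible modules. -/
theorem chE_eq_ec (hX : IsSetup X δ) {E : X.Modules} {n : ℕ} (hE : FlatMod.IsFinLocFreeOfRank n E)
    {Ls : List X.Modules} (hLs : ∀ L ∈ Ls, PicF.IsInvertible L) (hF : RF Ls E)
    (hn : Ls.length = n) {j : ℕ} (hj : j ≤ n) (a : G X δ) :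
    K307.chE hX hE j a = ec δ Ls j a := by
  subst hn
  obtain ⟨B, rfl⟩ := K307.Bun.exists_bun hX E hE
  rw [← B.ch_eq hE ⟨Iso.refl _⟩]
  symm
  refine B.eq_ch (c := fun j => ec δ Ls j a) (a := a) ?_ ?_ hj
  · rw [ec_zero]
    rfl
  · rw [rel_eq_zero_iff]
    have := B.isPB.epi
    exact chernRel_ec B.setup B.base B.shift B.inv B.q hLs hF a

end K308.Grp
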