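import Groth.Agent.Cyc.K308.OpPoly
import Groth.Agent.CycB.GenLocFin
import Groth.Prelude.Def_ChowOps2

/-!
# The defining relation of Chern classes in the ungraded Chow group

* `ChernRel`: `∑ (-1)^i c_1(O(1))^i p^*(c_{r-i}) = 0`;
* `isChernCap_iff`: `Cyc.IsChernCap` in terms of `ChernRel`.
-/

set_option autoImplicit false
universe u v
open AlgebraicGeometry CategoryTheory CategoryTheory.Limits TopologicalSpace Opposite Cyc
open Groth.Agent.CycB Groth.Agent.CycB.DivFun Groth.Agent.CycB.C1Pull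

namespace K308.Grp

variable {X Y P : Scheme.{u}} {δX : X → ℤ} {δY : Y → ℤ} {δP : P → ℤ}

/-- The coefficient of a cycle at a point, as a homomorphism. -/
def evH (x : X) : AlgebraicCycle X ℤ →+ ℤ where
  toFun α := α x
  map_zero' := rfl
  map_add' α β := by rw [Function.locallyFinsuppWithin.coe_add, Pi.add_apply]

theorem evH_apply (x : X) (α : AlgebraicCycle X ℤ) : evH x α = α x := rfl

theorem zsmul_cycle_apply (n : ℤ) (α : AlgebraicCycle X ℤ) (x : X) : (n • α) x = n * α x := by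
  rw [← evH_apply, map_zsmul, evH_apply, smul_eq_mul]

theorem sum_cycle_apply {ι : Type*} (s : Finset ι) (α : ι → AlgebraicCycle X ℤ) (x : X) :
    (∑ i ∈ s, α i) x = ∑ i ∈ s, α i x := by
  rw [← evH_apply, map_sum]
  rfl

theorem Zk_zsmul {k : ℤ} (n : ℤ) {α : AlgebraicCycle X ℤ} (hα : α ∈ Zk X δX k) :
    n • α ∈ Zk X δX k := by
  intro x hx
  rw [zsmul_cycle_apply, hα x hx, mul_zero]

theorem Zk_sum {k : ℤ} {ι : Type*} (s : Finset ι) {α : ι → AlgebraicCycle X ℤ}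
    (hα : ∀ i ∈ s, α i ∈ Zk X δX k) : ∑ i ∈ s, α i ∈ Zk X δX k := by
  intro x hx
  rw [sum_cycle_apply]
  exact Finset.sum_eq_zero fun i hi => hα i hi x hx

theorem Zk_add {k : ℤ} {α β : AlgebraicCycle X ℤ} (hα : α ∈ Zk X δX k) (hβ : β ∈ Zk X δX k) :
    α + β ∈ Zk X δX k := by
  intro x hx
  rw [Function.locallyFinsuppWithin.coe_add, Pi.add_apply, hα x hx, hβ x hx, add_zero]

theorem Zk_cap {k : ℤ} {L : X.Modules} {α γ : AlgebraicCycle X ℤ} (hα : α ∈ Zk X δX (k + 1))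
    {s : (ξ : X) → secFibre L ξ} (hγ : ⇑γ = c1CapFun δX L ⇑α s) : γ ∈ Zk X δX k := by
  intro x hx
  rw [hγ]
  exact C1Fin.c1Cap_eq_zero_of_ne hα s x hx

/-- iterated caps -/
theorem exists_powCycle (hX : IsSetup X δX) {L : X.Modules} (hL : PicF.IsInvertible L)
    {t : ℕ → (ξ : X) → secFibre L ξ} (ht : ∀ m ξ, t m ξ ≠ 0) (α : AlgebraicCycle X ℤ) (m : ℕ) :
    ∃ γ : AlgebraicCycle X ℤ, ⇑γ = c1PowFun δX L t m ⇑α ∧
      cl δX γ = (C1 δX L ^ m) (cl δX α) ∧
      ∀ k : ℤ, α ∈ Zk X δX (k + m) → γ ∈ Zk X δX k := by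
  induction m with
  | zero =>
    refine ⟨α, rfl, rfl, fun k hk => ?_⟩
    rwa [Nat.cast_zero, add_zero] at hk
  | succ m ih =>
    obtain ⟨γ, h1, h2, h3⟩ := ih
    obtain ⟨γ', hγ'⟩ := exists_cap hX hL γ (ht m)
    refine ⟨γ', ?_, ?_, fun k hk => ?_⟩
    · rw [hγ', h1]
      rfl
    · rw [pow_succ', end_mul_apply, ← h2, C1_eq hX hL]
      exact (c1_cl hX hL (fun ξ _ => ht m ξ) hγ').symm
    · refine Zk_cap (h3 (k + 1) ?_) hγ'
      have e : k + 1 + (m : ℤ) = k + ((m + 1 : ℕ) : ℤ) := by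
        rw [Nat.cast_add, Nat.cast_one]
        ring
      rwa [e]

/-- The relation defining Chern classes on the projective bundle. -/
def ChernRel (hP : IsSetup P δP) (hX : IsSetup X δX) (p : P ⟶ X) [Flat p] {e : ℤ}
    (he : Shift p δP δX e) (O1 : P.Modules) (r : ℕ) (c : ℕ → G X δX) : Prop :=
  ∑ i ∈ Finset.range (r + 1), (-1 : ℤ) ^ i • (C1 δP O1 ^ i) (pull hP hX p he (c (r - i))) = 0

/-- The classes of a tuple of cycles, extended by zero. -/
noncomputable def clT (δ : X → ℤ) {r : ℕ} (γ : Fin (r + 1) → AlgebraicCycle X ℤ) (n : ℕ) :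
    G X δ := if h : n < r + 1 then cl δ (γ ⟨n, h⟩) else 0

theorem clT_of_lt {r : ℕ} (γ : Fin (r + 1) → AlgebraicCycle X ℤ) {n : ℕ} (h : n < r + 1) :
    clT δX γ n = cl δX (γ ⟨n, h⟩) := dif_pos h

theorem clT_fin {r : ℕ} (γ : Fin (r + 1) → AlgebraicCycle X ℤ) (n : Fin (r + 1)) :
    clT δX γ n = cl δX (γ n) := dif_pos n.2

theorem chernRel_clT_iff (hP : IsSetup P δP) (hX : IsSetup X δX) (p : P ⟶ X) [Flat p] {e : ℤ}
    (he : Shift p δP δX e) (O1 : P.Modules) (r : ℕ) (γ : Fin (r + 1) → AlgebraicCycle X ℤ) :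
    ChernRel hP hX p he O1 r (clT δX γ) ↔
      ∑ i : Fin (r + 1), (-1 : ℤ) ^ (i : ℕ) •
        (C1 δP O1 ^ (i : ℕ)) (pull hP hX p he (cl δX (γ (Fin.rev i)))) = 0 := by
  unfold ChernRel
  rw [← Fin.sum_univ_eq_sum_range (fun i => (-1 : ℤ) ^ i •
    (C1 δP O1 ^ i) (pull hP hX p he (clT δX γ (r - i)))) (r + 1)]
  have h : ∀ i : Fin (r + 1), clT δX γ (r - i) = cl δX (γ (Fin.rev i)) := fun i => by
    rw [clT_of_lt γ (by omega : r - (i : ℕ) < r + 1)]
    congr 2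
    apply Fin.ext
    simp only [Fin.val_rev]
    omega
  simp only [h]

/-- `Cyc.IsChernCap` in terms of the relation in the ungraded Chow group. -/
theorem isChernCap_iff (hP : IsSetup P δP) (hX : IsSetup X δX) (p : P ⟶ X) [Flat p] {r : ℕ}
    (he : Shift p δP δX ((r : ℤ) - 1)) {O1 : P.Modules} (hO : PicF.IsInvertible O1) {k : ℤ}
    {α : AlgebraicCycle X ℤ} {γ : Fin (r + 1) → AlgebraicCycle X ℤ} :
    IsChernCap p δX δP O1 r k α γ ↔ γ 0 = α ∧ (∀ j : Fin (r + 1), γ j ∈ Zk X δX (k - ((j : ℕ) : ℤ))) ∧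
      ChernRel hP hX p he O1 r (clT δX γ) := by
  rw [chernRel_clT_iff]
  unfold IsChernCap
  refine and_congr_right fun _ => and_congr_right fun h2 => ?_
  -- for any sections, a cycle representing the sum
  have key : ∀ t : ℕ → (ξ : P) → secFibre O1 ξ, (∀ m ξ, t m ξ ≠ 0) →
      ∃ β : AlgebraicCycle P ℤ, (∀ y : P, β y = ∑ i : Fin (r + 1),
          (-1 : ℤ) ^ (i : ℕ) * c1PowFun δP O1 t i (pullFun p δP δX ((r : ℤ) - 1) ⇑(γ (Fin.rev i))) y) ∧
        β ∈ Zk P δP (k - 1) ∧ cl δP β = ∑ i : Fin (r + 1), (-1 : ℤ) ^ (i : ℕ) •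
          (C1 δP O1 ^ (i : ℕ)) (pull hP hX p he (cl δX (γ (Fin.rev i)))) := by
    intro t ht
    choose ζ h3 h4 h5 using fun i : Fin (r + 1) =>
      exists_powCycle hP hO ht (pullCycle hP p he (γ (Fin.rev i))) (i : ℕ)
    refine ⟨∑ i : Fin (r + 1), (-1 : ℤ) ^ (i : ℕ) • ζ i, ?_, ?_, ?_⟩
    · intro y
      rw [sum_cycle_apply]
      refine Finset.sum_congr rfl fun i _ => ?_
      rw [zsmul_cycle_apply, h3, coe_pullCycle]
    · refine Zk_sum _ fun i _ => Zk_zsmul _ (h5 i (k - 1) ?_)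
      have h6 := GenLocFin.pullFun_mem_Zk p (h2 (Fin.rev i)) (coe_pullCycle hP p he (γ (Fin.rev i)))
      have e : (((Fin.rev i : Fin (r + 1)) : ℕ) : ℤ) = r - i := by
        have := i.2
        rw [Fin.val_rev]
        omega
      rw [e] at h6
      have e' : k - ((r : ℤ) - i) + (r - 1) = k - 1 + i := by ring
      rwa [e'] at h6
    · rw [map_sum]
      refine Finset.sum_congr rfl fun i _ => ?_
      rw [map_zsmul, h4, pull_cl_pullCycle]
  constructor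
  · intro h
    obtain ⟨β, h3, h4, h5⟩ := key (fun _ => sec hO) (fun _ => sec_ne_zero hO)
    rw [← h5]
    exact (cl_eq_zero_iff h4).2 (h _ (fun _ => sec_ne_zero hO) β h3)
  · intro h t ht β hβ
    obtain ⟨β', h3, h4, h5⟩ := key t ht
    have : β = β' := by
      ext y
      rw [hβ, h3]
    rw [this, ← cl_eq_zero_iff h4, h5, h]

end K308.Grp
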