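import Groth.Agent.Cyc.K308.Chain
import Groth.Agent.Cyc.K308.Fund
import Groth.Agent.CycA.SetupField
import Groth.Prelude.Def_ChowOps
import Groth.Agent.S1928
import Groth.Agent.S1524

/-!
# Degrees of classes on proper schemes over a field

* `degG`: the degree homomorphism `G X δ →+ ℤ` for `X` proper over a field;
* `degG_push`: invariance under proper push forward;
* `degG_c1`: `deg (c_1(L) ∩ [X]_1) = χ(L) - χ(O)` for `dim X ≤ 1`;
* `deg_chain`: additivity of `Curv2.deg` along filtrations.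
-/

set_option autoImplicit false

universe u

open AlgebraicGeometry CategoryTheory CategoryTheory.Limits TopologicalSpace Cyc
open Groth.Agent.CycB Groth.Agent.CycB.DivFun

namespace K308.Grp

variable {K : Type u} [Field K] {X X' : Scheme.{u}} {δ : X → ℤ} {δ' : X' → ℤ}

theorem ratEquivZero_const {Y : Scheme.{u}} {c k : ℤ} {α : AlgebraicCycle Y ℤ}
    (h : RatEquivZero (fun _ => c) k α) : α = 0 := by
  obtain ⟨ι, ξ, f, h1, h2, h3, h4⟩ := h
  ext x
  rw [h4]
  refine finsum_eq_zero_of_forall_eq_zero fun i => ?_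
  unfold divFun
  rw [dif_neg]
  rintro ⟨-, h⟩
  have h' : c + 1 = c := h
  omega

variable (K) in
/-- Evaluation of a class on the spectrum of a field. -/
noncomputable def evPt : G (Spec (CommRingCat.of K)) (fun _ => (0 : ℤ)) →+ ℤ :=
  QuotientAddGroup.lift (R _ _)
    (AddMonoidHom.mk' (fun α => α (IsLocalRing.closedPoint K)) (fun α β => by
      rw [Function.locallyFinsuppWithin.coe_add, Pi.add_apply])) (by
    intro α hα
    have h0 := ratEquivZero_const (hα 0)
    have h1 : part (fun _ => (0 : ℤ)) 0 α (IsLocalRing.closedPoint K) = 0 := by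
      rw [h0]
      rfl
    rw [part_apply, if_pos rfl] at h1
    exact h1)

/-- The degree of a class on a proper scheme over a field. -/
noncomputable def degG (s : X ⟶ Spec (CommRingCat.of K)) [IsProper s] (hX : IsSetup X δ)
    (hδ : DeltaCompat s δ (fun _ => 0)) : G X δ →+ ℤ :=
  (evPt K).comp (push hX (Groth.Agent.CycA.SetupField.isSetup_Spec_field K) s hδ)

theorem degG_cl (s : X ⟶ Spec (CommRingCat.of K)) [IsProper s] (hX : IsSetup X δ)
    (hδ : DeltaCompat s δ (fun _ => 0)) (α : AlgebraicCycle X ℤ) :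
    degG s hX hδ (cl δ α) = ChowOps.deg s δ α := rfl

theorem degG_push (s : X ⟶ Spec (CommRingCat.of K)) [IsProper s] (hX : IsSetup X δ)
    (hδ : DeltaCompat s δ (fun _ => 0)) (s' : X' ⟶ Spec (CommRingCat.of K)) [IsProper s']
    (hX' : IsSetup X' δ') (hδ' : DeltaCompat s' δ' (fun _ => 0)) (f : X' ⟶ X) [IsProper f]
    (hf : DeltaCompat f δ' δ) (e : f ≫ s = s') (a : G X' δ') :
    degG s hX hδ (push hX' hX f hf a) = degG s' hX' hδ' a := by
  subst e
  unfold degG
  rw [AddMonoidHom.comp_apply, AddMonoidHom.comp_apply,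
    push_push hX' hX _ f s hf hδ hδ']

/-- The degree of `c_1(L) ∩ [X]_1`. -/
theorem degG_c1 [X.Over (Spec (CommRingCat.of K))] [IsProper (X ↘ Spec (CommRingCat.of K))]
    (hdim : topologicalKrullDim X ≤ 1) (hX : IsSetup X δ)
    (hδ : DeltaCompat (X ↘ Spec (CommRingCat.of K)) δ (fun _ => 0)) {L : X.Modules}
    (hL : PicF.IsInvertible L) {α : AlgebraicCycle X ℤ} (hα : ⇑α = subschemeFun δ 1 (𝟙 X)) :
    degG (X ↘ Spec (CommRingCat.of K)) hX hδ (C1 δ L (cl δ α)) = Curv2.deg K X L 1 := by
  have h1 := coe_capCycle hX hL α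
  have h2 : c1 hX hL (cl δ α) = cl δ (capCycle hX hL α) := rfl
  rw [Groth.Agent.S1928.result K X hdim δ hδ L hL (sec hL) (sec_ne_zero hL), C1_eq hX hL, h2,
    degG_cl]
  have hα0 : α ∈ Zk X δ 1 := by
    intro x hx
    rw [hα, C1Fin.subschemeFun_id, if_neg hx]
  have h3 : capCycle hX hL α ∈ Zk X δ 0 := by
    have := Zk_cap (k := 0) (L := L) (by simpa using hα0) h1
    simpa using this
  unfold ChowOps.deg
  rw [Push.map_apply]
  have h4 : {x : X | (X ↘ Spec (CommRingCat.of K)) x = IsLocalRing.closedPoint K} = Set.univ := by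
    ext x
    simp only [Set.mem_ofPred_eq, Set.mem_univ, iff_true]
    exact Subsingleton.elim (α := PrimeSpectrum K) _ _
  rw [h4, finsum_mem_univ]
  refine finsum_congr fun x => ?_
  rw [← hα, ← h1]
  by_cases hx : δ x = 0
  · rw [mul_comm]
    congr 1
    unfold AlgebraicCycle.mapCoeff
    rw [if_pos hx]
  · rw [h3 x hx, zero_mul, mul_zero]

end K308.Grp
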