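import Groth.Agent.Cyc.K308.DegG
import Groth.Agent.Cyc.K308.ChE
import Groth.Agent.SDiv.K470.Filtr
import Groth.Agent.S1666
import Groth.Agent.CurvesB.BirFinite

/-!
# Degree of a vector bundle on an integral proper curve

`deg_integral`: `deg(c_1(E) ∩ [X]_1) = χ(E) - r χ(O)` for `X` integral proper of dimension one.
-/

set_option autoImplicit false

universe u

open AlgebraicGeometry CategoryTheory CategoryTheory.Limits TopologicalSpace Cyc
open Groth.Agent.CycB Groth.Agent.CycB.DivFun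

namespace K308.Grp

variable {K : Type u} [Field K] {X X' : Scheme.{u}} {δ : X → ℤ} {δ' : X' → ℤ}

theorem euler_chain [X.Over (Spec (CommRingCat.of K))] [IsProper (X ↘ Spec (CommRingCat.of K))]
    {r : ℕ} (M : Fin (r + 1) → X.Modules) (h0 : IsZero (M 0)) (L : Fin r → X.Modules)
    (hL : ∀ i, Coh.IsCoh (L i)) (h : ∀ i : Fin r, ∃ S : ShortComplex X.Modules, S.ShortExact ∧
      Nonempty (S.X₁ ≅ M i.castSucc) ∧ Nonempty (S.X₂ ≅ M i.succ) ∧ Nonempty (S.X₃ ≅ L i)) :
    Coh.IsCoh (M (Fin.last r)) ∧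
      Curv2.euler K X (M (Fin.last r)) = ∑ i, Curv2.euler K X (L i) := by
  have : IsLocallyNoetherian X :=
    LocallyOfFiniteType.isLocallyNoetherian (X ↘ Spec (CommRingCat.of K))
  induction r with
  | zero =>
    refine ⟨Groth.Agent.CohqB.LocalQC.isCoh_of_isZero h0, ?_⟩
    rw [Finset.univ_eq_empty, Finset.sum_empty]
    have hz : (ShortComplex.mk (0 : M 0 ⟶ M 0) (0 : M 0 ⟶ M 0) (by simp)).ShortExact := by
      have e1 : Mono (0 : M 0 ⟶ M 0) := ⟨fun _ _ _ => h0.eq_of_tgt _ _⟩
      have e2 : Epi (0 : M 0 ⟶ M 0) := ⟨fun _ _ _ => h0.eq_of_src _ _⟩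
      exact { exact := ShortComplex.exact_of_isZero_X₂ _ h0, mono_f := e1, epi_g := e2 }
    have hc := Groth.Agent.CohqB.LocalQC.isCoh_of_isZero h0
    have := Groth.Agent.S1524.result K X _ hz hc hc hc
    dsimp only at this
    change Curv2.euler K X (M 0) = 0
    omega
  | succ r ih =>
    obtain ⟨h1, h2⟩ := ih (fun i => M i.castSucc) h0 (fun i => L i.castSucc) (fun i => hL _)
      (fun i => h i.castSucc)
    obtain ⟨S, hS, ⟨e1⟩, ⟨e2⟩, ⟨e3⟩⟩ := h (Fin.last r)
    have c1 : Coh.IsCoh S.X₁ := Groth.Agent.CohqB.LocalQC.isCoh_of_iso e1.symm h1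
    have c3 : Coh.IsCoh S.X₃ := Groth.Agent.CohqB.LocalQC.isCoh_of_iso e3.symm (hL _)
    have c2 : Coh.IsCoh S.X₂ := CohProp.isCoh_extension S hS c1 c3
    refine ⟨Groth.Agent.CohqB.LocalQC.isCoh_of_iso e2 c2, ?_⟩
    rw [Fin.sum_univ_castSucc, ← h2]
    have h3 := Groth.Agent.S1524.result K X S hS c1 c2 c3
    rw [Groth.Agent.VarietyB.DegPhi.euler_congr K e1,
      Groth.Agent.VarietyB.DegPhi.euler_congr K e2,
      Groth.Agent.VarietyB.DegPhi.euler_congr K e3] at h3
    exact h3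

theorem deg_chain [X.Over (Spec (CommRingCat.of K))] [IsProper (X ↘ Spec (CommRingCat.of K))]
    {r : ℕ} (M : Fin (r + 1) → X.Modules) (h0 : IsZero (M 0)) (L : Fin r → X.Modules)
    (hL : ∀ i, Coh.IsCoh (L i)) (h : ∀ i : Fin r, ∃ S : ShortComplex X.Modules, S.ShortExact ∧
      Nonempty (S.X₁ ≅ M i.castSucc) ∧ Nonempty (S.X₂ ≅ M i.succ) ∧ Nonempty (S.X₃ ≅ L i)) :
    Curv2.deg K X (M (Fin.last r)) r = ∑ i, Curv2.deg K X (L i) 1 := by
  unfold Curv2.deg
  rw [(euler_chain M h0 L hL h).2, Finset.sum_sub_distrib]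
  simp

section Bir

variable [IsIntegral X] [IsIntegral X'] (f : X' ⟶ X) (U : X.Opens) [IsIso (f ∣_ U)]

theorem exists_generic (hU : (U : Set X).Nonempty) :
    ∃ z : (f ⁻¹ᵁ U : X'.Opens), (f ⁻¹ᵁ U).ι z = genericPoint X' ∧
      f (genericPoint X') = genericPoint X := by
  have hne : Nonempty (U : Set X) := hU.to_subtype
  have hne' : Nonempty (U : Scheme.{u}) := hne
  have : Nonempty ((f ⁻¹ᵁ U : X'.Opens) : Scheme.{u}) := ⟨inv (f ∣_ U) hne'.some⟩
  have hU' : IsIntegral ((f ⁻¹ᵁ U : X'.Opens) : Scheme.{u}) := inferInstance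
  have hU1 : IsIntegral (U : Scheme.{u}) := inferInstance
  have e1 : (f ⁻¹ᵁ U).ι (genericPoint ((f ⁻¹ᵁ U : X'.Opens) : Scheme.{u})) = genericPoint X' :=
    genericPoint_eq_of_isOpenImmersion _
  have e2 : U.ι (genericPoint (U : Scheme.{u})) = genericPoint X :=
    genericPoint_eq_of_isOpenImmersion _
  have e3 : (f ∣_ U) (genericPoint ((f ⁻¹ᵁ U : X'.Opens) : Scheme.{u})) =
      genericPoint (U : Scheme.{u}) := genericPoint_eq_of_isOpenImmersion _
  refine ⟨genericPoint ((f ⁻¹ᵁ U : X'.Opens) : Scheme.{u}), e1, ?_⟩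
  rw [← e1, ← e2, ← e3]
  exact (congrArg (fun g => (g : _ ⟶ X) (genericPoint ((f ⁻¹ᵁ U : X'.Opens) : Scheme.{u})))
    (morphismRestrict_ι f U)).symm

theorem map_generic (hU : (U : Set X).Nonempty) : f (genericPoint X') = genericPoint X := by
  obtain ⟨z, -, h⟩ := exists_generic f U hU
  exact h

theorem generic_mem (hU : (U : Set X).Nonempty) : genericPoint X ∈ U :=
  (genericPoint_spec X).mem_open_set_iff U.isOpen |>.2 (by simpa using hU)

theorem residueDegree_generic (hU : (U : Set X).Nonempty) :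
    f.residueDegree (genericPoint X') = 1 := by
  obtain ⟨z, h1, -⟩ := exists_generic f U hU
  rw [← h1]
  have h2 := Push.residueDegree_comp (f ⁻¹ᵁ U).ι f z
  have h3 := Push.residueDegree_comp (f ∣_ U) U.ι z
  rw [DivNat.residueDegree_eq_one (f ⁻¹ᵁ U).ι z, mul_one] at h2
  rw [DivNat.residueDegree_eq_one (f ∣_ U) z, DivNat.residueDegree_eq_one U.ι _, mul_one] at h3
  rw [← h2, ← h3, morphismRestrict_ι]

end Bir

open Classical in
/-- The fundamental cycle of an integral scheme. -/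
theorem fund_integral [IsIntegral X] (hX : IsDimFun X δ) (hg : δ (genericPoint X) = 1) (x : X) :
    subschemeFun δ 1 (𝟙 X) x = if x = genericPoint X then 1 else 0 := by
  rw [C1Fin.subschemeFun_id]
  by_cases hx : x = genericPoint X
  · rw [if_pos hx, hx, if_pos hg]
    have h1 : Module.length (X.presheaf.stalk (genericPoint X))
        (X.presheaf.stalk (genericPoint X)) = 1 := by
      have : IsSimpleModule X.functionField X.functionField := inferInstance
      exact Module.length_eq_one_iff.2 this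
    rw [h1]
    rfl
  · rw [if_neg hx, if_neg]
    intro h
    have := (hX (genericPoint X) x (genericPoint_specializes x) (Ne.symm hx)).1
    omega

open Classical in
theorem push_fund_bir [IsIntegral X] [IsIntegral X'] (hX : IsSetup X δ) (hX' : IsSetup X' δ')
    (hg : δ (genericPoint X) = 1) (f : X' ⟶ X) [IsProper f] (hf : DeltaCompat f δ' δ)
    (hg' : δ' (genericPoint X') = 1) (U : X.Opens) (hU : (U : Set X).Nonempty) [IsIso (f ∣_ U)]
    {α : AlgebraicCycle X ℤ} (hα : ⇑α = subschemeFun δ 1 (𝟙 X)) {α' : AlgebraicCycle X' ℤ}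
    (hα' : ⇑α' = subschemeFun δ' 1 (𝟙 X')) : AlgebraicCycle.map f δ' δ α' = α := by
  ext y
  rw [Push.map_apply, hα, hα', fund_integral hX.2.2 hg, finsum_mem_def]
  rw [finsum_eq_single _ (genericPoint X')]
  · by_cases hy : y = genericPoint X
    · rw [if_pos hy, Set.indicator_of_mem (by rw [hy]; exact map_generic f U hU),
        fund_integral hX'.2.2 hg', if_pos rfl, one_mul]
      unfold AlgebraicCycle.mapCoeff
      rw [map_generic f U hU, hg, hg', if_pos rfl, residueDegree_generic f U hU]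
      rfl
    · rw [if_neg hy, Set.indicator_of_notMem]
      intro h
      exact hy (by rw [← map_generic f U hU]; exact h.symm)
  · intro x hx
    by_cases h : x ∈ {x : X' | f x = y}
    · rw [Set.indicator_of_mem h, fund_integral hX'.2.2 hg', if_neg hx, zero_mul]
    · rw [Set.indicator_of_notMem h]

end K308.Grp
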