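import Groth.Agent.Cyc.K308.MorCap
import Groth.Agent.Fdesc.StalkExt
import Groth.Agent.Ega1.ReducedSub

/-!
# The locus where a morphism of invertible modules is not surjective

`exists_degLocus`: for `φ : L ⟶ N` between invertible modules there is a closed immersion
`i : D ⟶ X` such that `φ` is surjective at the points outside of `D` and `i^* φ = 0`.
-/

set_option autoImplicit false
universe u v
open AlgebraicGeometry CategoryTheory CategoryTheory.Limits TopologicalSpace Opposite Cyc
open Groth.Agent.CycB Groth.Agent.CycB.C1Pull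
open Groth.Agent.CycB.ModStalk Groth.Agent.CycB.StalkExact
open Groth.Agent.Fdesc.PullbackStalk (canAdd canAdd_germ canAdd_smul stalkMap_pullback_canAdd)

namespace K308.Grp

variable {X Z : Scheme.{u}} {L N : X.Modules} (φ : L ⟶ N)

theorem surjective_iff_isUnit (hN : PicF.IsInvertible N) {x : X} {t : L.presheaf.stalk x}
    (ht : IsGen L x t) {t' : N.presheaf.stalk x} (ht' : IsGen N x t') {a : X.presheaf.stalk x}
    (h : stalkLin φ x t = a • t') : Function.Surjective (stalkLin φ x) ↔ IsUnit a := by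
  constructor
  · intro hs
    have h1 := isGen_stalkLin φ hN hs ht
    rw [h] at h1
    obtain ⟨u, hu⟩ := ht'.exists_unit_smul h1
    have : a = u := ht'.1 hu
    rw [this]
    exact u.isUnit
  · intro ha
    apply surjective_of_isGen φ (t := t)
    rw [h]
    exact ht'.unit_smul ha

theorem exists_local (hL : PicF.IsInvertible L) (hN : PicF.IsInvertible N) (x : X) :
    ∃ (W : X.Opens) (_ : x ∈ W) (t : Γ(L, W)) (t' : Γ(N, W)) (a : Γ(X, W)),
      IsGenOn L W t ∧ IsGenOn N W t' ∧ φ.app W t = (a • t' : Γ(N, W)) := by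
  obtain ⟨U, hxU, t, ht⟩ := exists_isGenOn hL x
  obtain ⟨V, hxV, t', ht'⟩ := exists_isGenOn hN x
  obtain ⟨a, ha⟩ := (ht' (U ⊓ V) inf_le_right).2
    (φ.app (U ⊓ V) (L.presheaf.map (homOfLE inf_le_left).op t))
  exact ⟨U ⊓ V, ⟨hxU, hxV⟩, _, _, a, ht.mono inf_le_left, ht'.mono inf_le_right, ha.symm⟩

theorem stalkLin_germ_of_eq {W : X.Opens} {t : Γ(L, W)} {t' : Γ(N, W)} {a : Γ(X, W)}
    (h : φ.app W t = (a • t' : Γ(N, W))) {y : X} (hy : y ∈ W) :
    stalkLin φ y (L.presheaf.germ W y hy t) =
      X.presheaf.germ W y hy a • N.presheaf.germ W y hy t' := by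
  rw [stalkLin_germ, h, ModStalk.germ_smul]

theorem isOpen_surjective (hL : PicF.IsInvertible L) (hN : PicF.IsInvertible N) :
    IsOpen {x : X | Function.Surjective (stalkLin φ x)} := by
  rw [isOpen_iff_forall_mem_open]
  intro x hx
  obtain ⟨W, hxW, t, t', a, ht, ht', h⟩ := exists_local φ hL hN x
  refine ⟨X.basicOpen a, ?_, (X.basicOpen a).isOpen, ?_⟩
  · intro y hy
    have hyW : y ∈ W := X.basicOpen_le a hy
    rw [Set.mem_ofPred_eq, surjective_iff_isUnit φ hN (ht.isGen y hyW) (ht'.isGen y hyW)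
      (stalkLin_germ_of_eq φ h hyW)]
    exact (X.mem_basicOpen a y hyW).1 hy
  · rw [SetLike.mem_coe, X.mem_basicOpen a x hxW, ← surjective_iff_isUnit φ hN (ht.isGen x hxW)
      (ht'.isGen x hxW) (stalkLin_germ_of_eq φ h hxW)]
    exact hx

theorem eq_zero_of_isReduced [IsReduced X] (hL : PicF.IsInvertible L) (hN : PicF.IsInvertible N)
    (H : ∀ x, ¬ Function.Surjective (stalkLin φ x)) : φ = 0 := by
  apply Groth.Agent.Fdesc.StalkExt.hom_ext_stalk
  intro x m
  obtain ⟨W, hxW, t, t', a, ht, ht', h⟩ := exists_local φ hL hN x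
  have ha : a = 0 := by
    apply basicOpen_eq_bot_iff a |>.1
    rw [eq_bot_iff]
    intro y hy
    have hyW : y ∈ W := X.basicOpen_le a hy
    exact (H y ((surjective_iff_isUnit φ hN (ht.isGen y hyW) (ht'.isGen y hyW)
      (stalkLin_germ_of_eq φ h hyW)).2 ((X.mem_basicOpen a y hyW).1 hy))).elim
  obtain ⟨b, rfl⟩ := (ht.isGen x hxW).2 m
  have h1 : stalkLin φ x (b • L.presheaf.germ W x hxW t) = 0 := by
    rw [map_smul, stalkLin_germ_of_eq φ h hxW, ha, map_zero, zero_smul, smul_zero]
  have h2 : stalkLin (0 : L ⟶ N) x (b • L.presheaf.germ W x hxW t) = 0 := by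
    rw [map_smul, stalkLin_germ]
    have : (0 : L ⟶ N).app W t = 0 := rfl
    rw [this, map_zero, smul_zero]
  exact h1.trans h2.symm

theorem surjective_of_surjective_pullback (hL : PicF.IsInvertible L) (hN : PicF.IsInvertible N)
    (i : Z ⟶ X) (z : Z)
    (h : Function.Surjective (stalkLin ((Scheme.Modules.pullback i).map φ) z)) :
    Function.Surjective (stalkLin φ (i z)) := by
  obtain ⟨t, ht⟩ := exists_isGen hL (i z)
  obtain ⟨t', ht'⟩ := exists_isGen hN (i z)
  obtain ⟨a, ha⟩ := ht'.2 (stalkLin φ (i z) t)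
  rw [surjective_iff_isUnit φ hN ht ht' ha.symm]
  have h1 : stalkLin ((Scheme.Modules.pullback i).map φ) z (canAdd i L z t) =
      i.stalkMap z a • canAdd i N z t' := by
    rw [← canAdd_smul]
    exact (stalkMap_pullback_canAdd i φ z t).trans (congrArg _ ha.symm)
  have h2 := (surjective_iff_isUnit _ (isInvertible_pullback i hN) (isGen_canAdd i ht)
    (isGen_canAdd i ht') h1).1 h
  exact isUnit_of_map_unit (i.stalkMap z).hom a h2

/-- The degeneracy locus of a morphism of invertible modules. -/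
theorem exists_degLocus (hL : PicF.IsInvertible L) (hN : PicF.IsInvertible N) :
    ∃ (D : Scheme.{u}) (i : D ⟶ X) (_ : IsClosedImmersion i),
      (∀ x, x ∉ Set.range ⇑i → Function.Surjective (stalkLin φ x)) ∧
      (Scheme.Modules.pullback i).map φ = 0 := by
  let C : Closeds X := ⟨{x : X | Function.Surjective (stalkLin φ x)}ᶜ,
    (isOpen_surjective φ hL hN).isClosed_compl⟩
  let I := Scheme.IdealSheafData.vanishingIdeal C
  have hred : IsReduced I.subscheme := Groth.Agent.Ega1.ReducedSub.isReduced_subscheme_vanishingIdeal C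
  have hr : Set.range ⇑I.subschemeι = {x : X | Function.Surjective (stalkLin φ x)}ᶜ := by
    rw [Scheme.IdealSheafData.range_subschemeι, Scheme.IdealSheafData.coe_support_vanishingIdeal]
    rfl
  refine ⟨I.subscheme, I.subschemeι, inferInstance, ?_, ?_⟩
  · intro x hx
    rw [hr] at hx
    by_contra hcon
    exact hx hcon
  · refine eq_zero_of_isReduced _ (isInvertible_pullback _ hL) (isInvertible_pullback _ hN) ?_
    intro z hz
    have h1 : I.subschemeι z ∈ Set.range ⇑I.subschemeι := ⟨z, rfl⟩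
    rw [hr] at h1
    exact h1 (surjective_of_surjective_pullback φ hL hN _ z hz)

end K308.Grp
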