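import Groth.Agent.Cyc.K308.DegInt
import Groth.Agent.S1641

/-!
# Degree of a vector bundle on a proper scheme of dimension at most one
-/

set_option autoImplicit false

universe u

open AlgebraicGeometry CategoryTheory CategoryTheory.Limits TopologicalSpace Cyc
open Groth.Agent.CycB Groth.Agent.CycB.DivFun

namespace K308.Grp

variable {K : Type u} [Field K] {X X' : Scheme.{u}} {δ : X → ℤ} {δ' : X' → ℤ}

theorem dim_integral [IsIntegral X] (s : X ⟶ Spec (CommRingCat.of K)) [LocallyOfFiniteType s]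
    (hδ : DeltaCompat s δ (fun _ => 0)) :
    ∃ n : ℕ, δ (genericPoint X) = n ∧ topologicalKrullDim X = n := by
  obtain ⟨n, h1, h2⟩ := DegReduce.dim_closure K s δ hδ (genericPoint X)
  refine ⟨n, h1, ?_⟩
  rw [← h2]
  have h3 : closure {genericPoint X} = (Set.univ : Set X) := (genericPoint_spec X).def
  rw [h3]
  exact (Homeomorph.Set.univ X).symm.isHomeomorph.topologicalKrullDim_eq

theorem delta_le_one [IsIntegral X] (hX : IsDimFun X δ) (hg : δ (genericPoint X) = 1) (x : X) :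
    δ x ≤ 1 := by
  by_cases hx : genericPoint X = x
  · rw [← hx, hg]
  · have := (hX (genericPoint X) x (genericPoint_specializes x) hx).1
    omega

theorem rf_of_chain' {r : ℕ} (M : Fin (r + 1) → X.Modules) (h0 : IsZero (M 0))
    (L : Fin r → X.Modules) (h : ∀ i : Fin r, ∃ S : ShortComplex X.Modules, S.ShortExact ∧
      Nonempty (S.X₁ ≅ M i.castSucc) ∧ Nonempty (S.X₂ ≅ M i.succ) ∧ Nonempty (S.X₃ ≅ L i)) :
    RF (List.ofFn L) (M (Fin.last r)) := by
  choose S hS e1 e2 e3 using h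
  have hab : ∀ i, ((e1 i).some.inv ≫ (S i).f ≫ (e2 i).some.hom) ≫
      ((e2 i).some.inv ≫ (S i).g ≫ (e3 i).some.hom) = 0 := by
    intro i
    simp
  refine rf_of_chain M h0 L (fun i => (e1 i).some.inv ≫ (S i).f ≫ (e2 i).some.hom)
    (fun i => (e2 i).some.inv ≫ (S i).g ≫ (e3 i).some.hom) hab fun i => ?_
  refine ShortComplex.shortExact_of_iso ?_ (hS i)
  exact ShortComplex.isoMk (e1 i).some (e2 i).some (e3 i).some (by simp) (by simp)

/-- The integral case. -/
theorem deg_integral [X.Over (Spec (CommRingCat.of K))]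
    [IsProper (X ↘ Spec (CommRingCat.of K))] [IsIntegral X] (hdim : topologicalKrullDim X = 1)
    (hX : IsSetup X δ) (hδ : DeltaCompat (X ↘ Spec (CommRingCat.of K)) δ (fun _ => 0)) {r : ℕ}
    (hr : 1 ≤ r) {E : X.Modules} (hE : FlatMod.IsFinLocFreeOfRank r E) {α : AlgebraicCycle X ℤ}
    (hα : ⇑α = subschemeFun δ 1 (𝟙 X)) :
    degG (X ↘ Spec (CommRingCat.of K)) hX hδ (K307.chE hX hE 1 (cl δ α)) =
      Curv2.deg K X E r := by
  obtain ⟨X', f, hX'i, hf, U, hU, hfU, M, L, hM0, ⟨e⟩, h⟩ := K470.Filtr.main r X E hE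
  let _ : X'.Over (Spec (CommRingCat.of K)) := ⟨f ≫ (X ↘ Spec (CommRingCat.of K))⟩
  have hp' : IsProper (X' ↘ Spec (CommRingCat.of K)) :=
    inferInstanceAs (IsProper (f ≫ (X ↘ Spec (CommRingCat.of K))))
  obtain ⟨δ', hf'⟩ := SetupLft.exists_deltaCompat f δ
  have hX' : IsSetup X' δ' := SetupLft.isSetup_of_deltaCompat f hX hf'
  have hs' : DeltaCompat (X' ↘ Spec (CommRingCat.of K)) δ' (fun _ => 0) :=
    RelDim.deltaCompat_comp hf' hδ
  have hg : δ (genericPoint X) = 1 := by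
    obtain ⟨n, h1, h2⟩ := dim_integral (X ↘ Spec (CommRingCat.of K)) hδ
    rw [h1]
    rw [hdim] at h2
    have : (1 : ℕ) = n := by exact_mod_cast h2
    rw [← this]
    rfl
  have hg' : δ' (genericPoint X') = 1 := by
    obtain ⟨m, hm, hm'⟩ := RelDim.deltaCompat_iff.mp hf' (genericPoint X')
    rw [Groth.Agent.CurvesB.BirFinite.rtd_eq_zero f U _
      (by rw [map_generic f U hU]; exact generic_mem U hU)] at hm
    rw [hm', map_generic f U hU, hg]
    have : m = 0 := by exact_mod_cast hm.symm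
    rw [this]
    rfl
  have hdim' : topologicalKrullDim X' ≤ 1 := by
    obtain ⟨n, h1, h2⟩ := dim_integral (X' ↘ Spec (CommRingCat.of K)) hs'
    rw [hg'] at h1
    have : n = 1 := by exact_mod_cast h1.symm
    rw [h2, this]
    rfl
  have hUd : Dense (U : Set X) := U.isOpen.dense hU
  have hUd' : Dense ((f ⁻¹ᵁ U : X'.Opens) : Set X') := by
    refine (f ⁻¹ᵁ U).isOpen.dense ⟨genericPoint X', ?_⟩
    change f (genericPoint X') ∈ U
    rw [map_generic f U hU]
    exact generic_mem U hU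
  have h1 := Groth.Agent.S1666.result K X X' hdim.le hdim' f rfl U hUd hUd' hfU r E hE
  have h2 : Curv2.deg K X' ((Scheme.Modules.pullback f).obj E) r =
      Curv2.deg K X' (M (Fin.last r)) r := by
    unfold Curv2.deg
    rw [Groth.Agent.VarietyB.DegPhi.euler_congr K e]
  have h3 := deg_chain (K := K) M hM0 L (fun i => DegCurve.isCoh_of_isInvertible (h i).1)
    fun i => (h i).2
  obtain ⟨α', hα'⟩ : ∃ α' : AlgebraicCycle X' ℤ, ⇑α' = subschemeFun δ' 1 (𝟙 X') := by
    have := hX'.1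
    exact C1Fin.exists_cycle_subschemeFun_id hX'.2.2 (delta_le_one hX'.2.2 hg')
  have h4 : AlgebraicCycle.map f δ' δ α' = α := push_fund_bir hX hX' hg f hf' hg' U hU hα hα'
  have hE' : FlatMod.IsFinLocFreeOfRank r ((Scheme.Modules.pullback f).obj E) :=
    Groth.Agent.Vancyc.H878.Triv.isFinLocFreeOfRank_pullback f hE
  have h5 : cl δ α = push hX' hX f hf' (cl δ' α') := by rw [push_cl, h4]
  have hLs : ∀ N ∈ List.ofFn L, PicF.IsInvertible N := by
    intro N hN
    rw [List.mem_ofFn] at hN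
    obtain ⟨i, rfl⟩ := hN
    exact (h i).1
  have hRF : RF (List.ofFn L) ((Scheme.Modules.pullback f).obj E) :=
    (rf_of_chain' M hM0 L fun i => (h i).2).iso e
  rw [h5, ← K307.push_chE hX hX' hE f hf' hE' ⟨Iso.refl _⟩ 1,
    degG_push (X ↘ Spec (CommRingCat.of K)) hX hδ (X' ↘ Spec (CommRingCat.of K)) hX' hs' f hf' rfl,
    chE_eq_ec hX' hE' hLs hRF (by rw [List.length_ofFn]) hr, ec_one, ← h1, h2, h3,
    List.map_ofFn, List.sum_ofFn, ← AddMonoid.End.sum_apply', map_sum]
  exact Finset.sum_congr rfl fun i _ => degG_c1 hdim' hX' hs' (h i).1 hα'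

end K308.Grp
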