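import Groth.Agent.Cyc.K308.DegVB

/-!
# Degree of a vector bundle on a proper scheme of dimension at most one (general case)
-/

set_option autoImplicit false

universe u

open AlgebraicGeometry CategoryTheory CategoryTheory.Limits TopologicalSpace Cyc
open Groth.Agent.CycB Groth.Agent.CycB.DivFun

namespace K308.Grp

variable {K : Type u} [Field K] {X : Scheme.{u}} {δ : X → ℤ}

/-- The reduced closed subscheme of an irreducible component. -/
theorem exists_component [IsNoetherian X] [X.Over (Spec (CommRingCat.of K))]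
    [IsProper (X ↘ Spec (CommRingCat.of K))] (hX : IsSetup X δ)
    (hδ : DeltaCompat (X ↘ Spec (CommRingCat.of K)) δ (fun _ => 0)) {r : ℕ} (hr : 1 ≤ r)
    {E : X.Modules} (hE : FlatMod.IsFinLocFreeOfRank r E) (hδ1 : ∀ x, δ x ≤ 1)
    (Z : irreducibleComponents (X : Type u)) :
    ∃ β : AlgebraicCycle X ℤ,
      (∀ ξ, ξ = Z.2.1.genericPoint → δ ξ = 1 → β ξ = 1) ∧
      (∀ ξ, ¬ (ξ = Z.2.1.genericPoint ∧ δ ξ = 1) → β ξ = 0) ∧
      degG (X ↘ Spec (CommRingCat.of K)) hX hδ (K307.chE hX hE 1 (cl δ β)) =
        (if topologicalKrullDim (Z.1 : Set X) = 1 then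
          @Curv2.deg K _ (X.irreducibleComponentIdeal Z.1 Z.2).radical.subscheme
            ⟨(X.irreducibleComponentIdeal Z.1 Z.2).radical.subschemeι ≫
              (X ↘ (Spec (CommRingCat.of K)))⟩
            ((Scheme.Modules.pullback
              (X.irreducibleComponentIdeal Z.1 Z.2).radical.subschemeι).obj E) r
        else 0) := by
  have hgp : closure {Z.2.1.genericPoint} = Z.1 := by
    have h1 := Z.2.1.isGenericPoint_genericPoint_closure
    rw [(isClosed_of_mem_irreducibleComponents Z.1 Z.2).closure_eq] at h1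
    exact h1
  obtain ⟨n, hn, hn'⟩ := DegReduce.dim_closure K (X ↘ Spec (CommRingCat.of K)) δ hδ
    Z.2.1.genericPoint
  rw [hgp] at hn'
  by_cases hZ1 : topologicalKrullDim (Z.1 : Set X) = 1
  swap
  · refine ⟨0, fun ξ h1 h2 => ?_, fun ξ _ => rfl, ?_⟩
    · exfalso
      rw [h1, hn] at h2
      apply hZ1
      have : n = 1 := by exact_mod_cast h2
      rw [hn', this]
      rfl
    · rw [map_zero, map_zero, map_zero, if_neg hZ1]
  rw [if_pos hZ1]
  have hn1 : n = 1 := by
    rw [hn'] at hZ1
    exact_mod_cast hZ1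
  have hδZ : δ Z.2.1.genericPoint = 1 := by rw [hn, hn1]; rfl
  let I := (X.irreducibleComponentIdeal Z.1 Z.2).radical
  let i : I.subscheme ⟶ X := I.subschemeι
  have hred : IsReduced I.subscheme :=
    Groth.Agent.Ega1.ReducedSub.isReduced_subscheme_radical _
  have hrange : Set.range ⇑i = Z.1 := by
    rw [Scheme.IdealSheafData.range_subschemeι]
    rfl
  have hirr : IrreducibleSpace I.subscheme := Subtype.irreducibleSpace Z.2.1
  have hint : IsIntegral I.subscheme := isIntegral_of_irreducibleSpace_of_isReduced _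
  have hgen : i (genericPoint I.subscheme) = Z.2.1.genericPoint := by
    have h1 : IsGenericPoint (i (genericPoint I.subscheme)) Z.1 := by
      have h2 := (genericPoint_spec I.subscheme).image i.continuous
      rw [Set.image_univ, hrange,
        (isClosed_of_mem_irreducibleComponents Z.1 Z.2).closure_eq] at h2
      exact h2
    exact h1.eq hgp
  let _ : I.subscheme.Over (Spec (CommRingCat.of K)) := ⟨i ≫ (X ↘ (Spec (CommRingCat.of K)))⟩
  have hp : IsProper (I.subscheme ↘ Spec (CommRingCat.of K)) :=
    inferInstanceAs (IsProper (i ≫ (X ↘ (Spec (CommRingCat.of K)))))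
  have hdimC : topologicalKrullDim I.subscheme = 1 := by
    rw [← hZ1, ← hrange]
    exact (i.isClosedEmbedding.isEmbedding.toHomeomorph).isHomeomorph.topologicalKrullDim_eq
  have hiδ : DeltaCompat i (fun z => δ (i z)) δ := GysinFib.deltaCompat_closedImmersion i δ
  have hC : IsSetup I.subscheme (fun z => δ (i z)) := SetupLft.isSetup_of_deltaCompat i hX hiδ
  have hδC : DeltaCompat (I.subscheme ↘ Spec (CommRingCat.of K)) (fun z => δ (i z))
      (fun _ => 0) := RelDim.deltaCompat_comp hiδ hδ
  have hCn := hC.1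
  obtain ⟨β', hβ'⟩ := C1Fin.exists_cycle_subschemeFun_id (k := 1) hC.2.2 (fun z => hδ1 (i z))
  have hE' : FlatMod.IsFinLocFreeOfRank r ((Scheme.Modules.pullback i).obj E) :=
    Groth.Agent.Vancyc.H878.Triv.isFinLocFreeOfRank_pullback i hE
  have hδg : (fun z => δ (i z)) (genericPoint I.subscheme) = 1 := by
    change δ (i (genericPoint I.subscheme)) = 1
    rw [hgen, hδZ]
  refine ⟨AlgebraicCycle.map i (fun z => δ (i z)) δ β', fun ξ h1 h2 => ?_, fun ξ h => ?_, ?_⟩
  · rw [h1, ← hgen, map_closedImmersion_apply, hβ', fund_integral hC.2.2 hδg, if_pos rfl]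
  · by_cases hξ : ξ ∈ Set.range ⇑i
    · obtain ⟨z, rfl⟩ := hξ
      rw [map_closedImmersion_apply, hβ', fund_integral hC.2.2 hδg, if_neg]
      rintro rfl
      exact h ⟨hgen, by rw [hgen, hδZ]⟩
    · exact map_closedImmersion_apply_of_notMem i δ _ hξ
  · rw [← push_cl hC hX i hiδ, ← K307.push_chE hX hC hE i hiδ hE' ⟨Iso.refl _⟩ 1,
      degG_push (X ↘ Spec (CommRingCat.of K)) hX hδ (I.subscheme ↘ Spec (CommRingCat.of K)) hC
        hδC i hiδ rfl]
    exact deg_integral hdimC hC hδC hr hE' hβ'

/-- `deg(c_1(E) ∩ [X]_1) = χ(E) - r χ(O_X)`. -/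
theorem deg_general [X.Over (Spec (CommRingCat.of K))]
    [IsProper (X ↘ Spec (CommRingCat.of K))] (hdim : topologicalKrullDim X ≤ 1)
    (hX : IsSetup X δ) (hδ : DeltaCompat (X ↘ Spec (CommRingCat.of K)) δ (fun _ => 0)) {r : ℕ}
    (hr : 1 ≤ r) {E : X.Modules} (hE : FlatMod.IsFinLocFreeOfRank r E) {α : AlgebraicCycle X ℤ}
    (hα : ⇑α = subschemeFun δ 1 (𝟙 X)) :
    degG (X ↘ Spec (CommRingCat.of K)) hX hδ (K307.chE hX hE 1 (cl δ α)) =
      Curv2.deg K X E r := by
  classical
  have : IsLocallyNoetherian X := hX.1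
  have : CompactSpace X :=
    QuasiCompact.compactSpace_of_compactSpace (X ↘ Spec (CommRingCat.of K))
  have : IsNoetherian X := ⟨⟩
  have hδ1 : ∀ x, δ x ≤ 1 := fun x => by
    obtain ⟨n, hn, hn'⟩ := DegReduce.dim_closure K (X ↘ Spec (CommRingCat.of K)) δ hδ x
    have h1 : topologicalKrullDim (closure {x} : Set X) ≤ topologicalKrullDim X :=
      Topology.IsInducing.subtypeVal.topologicalKrullDim_le
    rw [hn'] at h1
    have h2 : ((n : ℕ) : WithBot ℕ∞) ≤ 1 := h1.trans hdim
    have h3 : n ≤ 1 := by exact_mod_cast h2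
    omega
  choose β hβ1 hβ0 hβ using exists_component hX hδ hr hE hδ1
  have hfin : Finite (irreducibleComponents (X : Type u)) :=
    TopologicalSpace.NoetherianSpace.finite_irreducibleComponents
  have := Fintype.ofFinite (irreducibleComponents (X : Type u))
  let m : irreducibleComponents (X : Type u) → ℤ := fun Z =>
    ((Module.length (X.presheaf.stalk Z.2.1.genericPoint)
      (X.presheaf.stalk Z.2.1.genericPoint)).toNat : ℤ)
  have hgp : ∀ Z : irreducibleComponents (X : Type u), closure {Z.2.1.genericPoint} = Z.1 := by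
    intro Z
    have h1 := Z.2.1.isGenericPoint_genericPoint_closure
    rw [(isClosed_of_mem_irreducibleComponents Z.1 Z.2).closure_eq] at h1
    exact h1
  have key : α = ∑ Z, m Z • β Z := by
    ext ξ
    rw [hα, C1Fin.subschemeFun_id]
    have e1 : (∑ Z, m Z • β Z) ξ = ∑ Z, m Z * β Z ξ := by
      have : ∀ s : Finset (irreducibleComponents (X : Type u)),
          (∑ Z ∈ s, m Z • β Z) ξ = ∑ Z ∈ s, m Z * β Z ξ := by
        intro s
        induction s using Finset.induction_on with
        | empty => rfl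
        | insert a s ha ih =>
          rw [Finset.sum_insert ha, Finset.sum_insert ha,
            Function.locallyFinsuppWithin.coe_add, Pi.add_apply, ih]
          rfl
      exact this _
    rw [e1]
    by_cases hξ : δ ξ = 1
    · have h3 : closure {ξ} ∈ irreducibleComponents (X : Type u) := by
        refine ⟨isIrreducible_singleton.closure, fun S hS hle => ?_⟩
        have hS' : IsIrreducible (closure S) := hS.closure
        obtain ⟨η, hη⟩ := QuasiSober.sober hS' isClosed_closure
        have hηξ : η ⤳ ξ := by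
          rw [specializes_iff_mem_closure, hη.def]
          exact subset_closure (hle (subset_closure rfl))
        have : η = ξ := by
          by_contra hne
          have := (hX.2.2 η ξ hηξ hne).1
          have := hδ1 η
          omega
        rw [← this, hη.def]
        exact subset_closure
      let Z₀ : irreducibleComponents (X : Type u) := ⟨_, h3⟩
      have hZ₀ : ξ = Z₀.2.1.genericPoint := by
        have h4 := hgp Z₀
        exact ((show IsGenericPoint _ _ from h4).eq
          (show IsGenericPoint ξ (closure {ξ}) from rfl)).symm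
      rw [if_pos hξ, Finset.sum_eq_single Z₀]
      · rw [hβ1 Z₀ ξ hZ₀ hξ, mul_one]
        change _ = ((Module.length (X.presheaf.stalk Z₀.2.1.genericPoint)
          (X.presheaf.stalk Z₀.2.1.genericPoint)).toNat : ℤ)
        rw [← hZ₀]
      · intro Z _ hZ
        rw [hβ0 Z ξ, mul_zero]
        rintro ⟨h5, -⟩
        apply hZ
        apply Subtype.ext
        rw [← hgp Z, ← h5]
      · intro h
        exact absurd (Finset.mem_univ _) h
    · rw [if_neg hξ]
      refine (Finset.sum_eq_zero fun Z _ => ?_).symm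
      rw [hβ0 Z ξ (fun h => hξ h.2), mul_zero]
  rw [key, map_sum, map_sum, map_sum, Groth.Agent.S1641.result K X hdim r E hE,
    finsum_eq_sum_of_fintype]
  refine Finset.sum_congr rfl fun Z _ => ?_
  rw [map_zsmul, map_zsmul, map_zsmul, hβ Z, smul_eq_mul]
  by_cases hZ1 : topologicalKrullDim (Z.1 : Set X) = 1
  · rw [if_pos hZ1, if_pos hZ1]
  · rw [if_neg hZ1, if_neg hZ1, mul_zero]

end K308.Grp
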