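import Groth.Agent.Cyc.K308.Ops
import Groth.Agent.CycB.StalkExact
import Groth.Agent.CycB.GysinFib

/-!
# First Chern classes and morphisms of invertible modules

* `c1_congr`: isomorphic invertible modules have the same first Chern class;
* `exists_push_eq`: for a morphism `φ : L ⟶ N` of invertible modules, surjective outside of a closed
  subscheme `i : D ⟶ X`, the class `c_1(N) a - c_1(L) a` is the image of a class on `D`.
-/

set_option autoImplicit false
universe u v
open AlgebraicGeometry CategoryTheory CategoryTheory.Limits TopologicalSpace Opposite Cyc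
open Groth.Agent.CycB Groth.Agent.CycB.DivFun Groth.Agent.CycB.C1Pull
open Groth.Agent.CycB.ModStalk Groth.Agent.CycB.StalkExact

namespace K308.Grp

variable {X Y Z : Scheme.{u}} {δX : X → ℤ} {δY : Y → ℤ} {δZ : Z → ℤ}

/-! ### closed immersions -/

theorem map_closedImmersion_apply (i : Z ⟶ X) [IsClosedImmersion i] (δ : X → ℤ)
    (α : AlgebraicCycle Z ℤ) (z : Z) :
    AlgebraicCycle.map i (fun z => δ (i z)) δ α (i z) = α z := by
  have hinj : Function.Injective ⇑i := i.isClosedEmbedding.injective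
  rw [Push.map_apply]
  have h1 : {x : Z | i x = i z} = {z} := by
    ext x
    exact hinj.eq_iff
  rw [h1, finsum_mem_singleton]
  have h2 : AlgebraicCycle.mapCoeff i (fun z => δ (i z)) δ z = 1 := by
    unfold AlgebraicCycle.mapCoeff
    rw [if_pos rfl, DivNat.residueDegree_eq_one]
  rw [h2, Nat.cast_one, mul_one]

theorem map_closedImmersion_apply_of_notMem (i : Z ⟶ X) [IsClosedImmersion i] (δ : X → ℤ)
    (α : AlgebraicCycle Z ℤ) {x : X} (hx : x ∉ Set.range ⇑i) :
    AlgebraicCycle.map i (fun z => δ (i z)) δ α x = 0 := by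
  rw [Push.map_apply]
  have h1 : {z : Z | i z = x} = ∅ := by
    ext z
    simp only [Set.mem_ofPred_eq, Set.mem_empty_iff_false, iff_false]
    exact fun h => hx ⟨z, h⟩
  rw [h1, finsum_mem_empty]

/-- A cycle supported on a closed subscheme is a pushforward. -/
theorem map_comapCycle (i : Z ⟶ X) [IsClosedImmersion i] (δ : X → ℤ) (γ : AlgebraicCycle X ℤ)
    (hγ : ∀ x, x ∉ Set.range ⇑i → γ x = 0) :
    AlgebraicCycle.map i (fun z => δ (i z)) δ
      (RatTransport.comapCycle i i.isClosedEmbedding.injective γ) = γ := by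
  ext x
  by_cases hx : x ∈ Set.range ⇑i
  · obtain ⟨z, rfl⟩ := hx
    rw [map_closedImmersion_apply, RatTransport.comapCycle_apply]
  · rw [map_closedImmersion_apply_of_notMem i δ _ hx, hγ x hx]

/-! ### maps of fibres -/

theorem stalkLin_spec {M N : X.Modules} (f : M ⟶ N) {x ξ : X} (h : ξ ⤳ x)
    (m : M.presheaf.stalk x) :
    stalkLin f ξ (M.presheaf.stalkSpecializes h m) = N.presheaf.stalkSpecializes h (stalkLin f x m) := by
  obtain ⟨U, hU, m, rfl⟩ := M.presheaf.exists_germ_eq m
  have h1 : M.presheaf.stalkSpecializes h (M.presheaf.germ U x hU m) =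
      M.presheaf.germ U ξ (h.mem_open U.isOpen hU) m :=
    TopCat.Presheaf.germ_stalkSpecializes_apply M.presheaf hU h m
  rw [h1, stalkLin_germ, stalkLin_germ]
  exact (TopCat.Presheaf.germ_stalkSpecializes_apply N.presheaf hU h _).symm

/-- The map on fibres of a morphism of modules. -/
noncomputable def fibMor {M N : X.Modules} (φ : M ⟶ N) (ξ : X) :
    secFibre M ξ →ₗ[X.presheaf.stalk ξ] secFibre N ξ :=
  Submodule.mapQ _ _ (stalkLin φ ξ) (by
    rw [← Submodule.map_le_iff_le_comap, Submodule.map_smul'']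
    exact Submodule.smul_mono le_rfl le_top)

theorem fibMor_cl {M N : X.Modules} (φ : M ⟶ N) (ξ : X) (m : M.presheaf.stalk ξ) :
    fibMor φ ξ (C1Basic.cl M ξ m) = C1Basic.cl N ξ (stalkLin φ ξ m) := rfl

variable {L N : X.Modules} (φ : L ⟶ N)

/-- the image of a generator under a surjective stalk map is a generator -/
theorem isGen_stalkLin (hN : PicF.IsInvertible N) {x : X}
    (hx : Function.Surjective (stalkLin φ x)) {t : L.presheaf.stalk x} (ht : IsGen L x t) :
    IsGen N x (stalkLin φ x t) := by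
  apply isGen_of_span_eq_top hN
  rw [eq_top_iff]
  intro m _
  obtain ⟨l, rfl⟩ := hx m
  obtain ⟨a, rfl⟩ := ht.2 l
  dsimp only
  rw [map_smul]
  exact Submodule.smul_mem _ _ (Submodule.mem_span_singleton_self _)

theorem surjective_of_isGen {x : X} {t : L.presheaf.stalk x} (ht : IsGen N x (stalkLin φ x t)) :
    Function.Surjective (stalkLin φ x) := by
  intro m
  obtain ⟨a, rfl⟩ := ht.2 m
  exact ⟨a • t, map_smul _ _ _⟩

theorem surjective_of_specializes (hL : PicF.IsInvertible L) (hN : PicF.IsInvertible N) {ξ x : X}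
    (h : ξ ⤳ x) (hx : Function.Surjective (stalkLin φ x)) :
    Function.Surjective (stalkLin φ ξ) := by
  obtain ⟨t, ht⟩ := exists_isGen hL x
  have h1 := (isGen_stalkLin φ hN hx ht).stalkSpecializes hN h
  rw [← stalkLin_spec] at h1
  exact surjective_of_isGen φ h1

theorem fibMor_ne_zero (hL : PicF.IsInvertible L) (hN : PicF.IsInvertible N) {ξ : X}
    (hξ : Function.Surjective (stalkLin φ ξ)) {s : secFibre L ξ} (hs : s ≠ 0) :
    fibMor φ ξ s ≠ 0 := by
  obtain ⟨t, ht⟩ := exists_isGen hL ξ
  obtain ⟨a, rfl⟩ := C1Basic.exists_smul_cl ht s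
  rw [map_smul, fibMor_cl]
  rw [ne_eq, C1Basic.smul_cl_eq_zero_iff ht] at hs
  rwa [ne_eq, C1Basic.smul_cl_eq_zero_iff (isGen_stalkLin φ hN hξ ht)]

theorem secOrdAt_fibMor (hL : PicF.IsInvertible L) (hN : PicF.IsInvertible N) {ξ x : X}
    (h : ξ ⤳ x) (hx : Function.Surjective (stalkLin φ x)) {s : secFibre L ξ} (hs : s ≠ 0) :
    secOrdAt N ξ x h (fibMor φ ξ s) = secOrdAt L ξ x h s := by
  obtain ⟨t, ht⟩ := exists_isGen hL x
  obtain ⟨a, rfl⟩ := C1Basic.exists_smul_cl (ht.stalkSpecializes hL h) s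
  rw [ne_eq, C1Basic.smul_cl_eq_zero_iff (ht.stalkSpecializes hL h)] at hs
  rw [C1Basic.secOrdAt_smul hL h ht a hs, map_smul, fibMor_cl, stalkLin_spec,
    C1Basic.secOrdAt_smul hN h (isGen_stalkLin φ hN hx ht) a hs]

theorem secDivFun_fibMor (hL : PicF.IsInvertible L) (hN : PicF.IsInvertible N) (δ : X → ℤ) {ξ x : X}
    (hx : Function.Surjective (stalkLin φ x)) {s : secFibre L ξ} (hs : s ≠ 0) :
    secDivFun δ N ξ (fibMor φ ξ s) x = secDivFun δ L ξ s x := by
  unfold secDivFun
  split_ifs with h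
  · exact secOrdAt_fibMor φ hL hN h.1 hx hs
  · rfl

open Classical in
/-- Sections of `N` which are images of the chosen sections of `L` where `φ` is surjective. -/
noncomputable def secMor (hL : PicF.IsInvertible L) (hN : PicF.IsInvertible N) (ξ : X) :
    secFibre N ξ :=
  if Function.Surjective (stalkLin φ ξ) then fibMor φ ξ (sec hL ξ) else sec hN ξ

theorem secMor_ne_zero (hL : PicF.IsInvertible L) (hN : PicF.IsInvertible N) (ξ : X) :
    secMor φ hL hN ξ ≠ 0 := by
  unfold secMor
  split_ifs with h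
  · exact fibMor_ne_zero φ hL hN h (sec_ne_zero hL ξ)
  · exact sec_ne_zero hN ξ

theorem c1CapFun_secMor (hL : PicF.IsInvertible L) (hN : PicF.IsInvertible N) (δ : X → ℤ)
    (α : X → ℤ) {x : X} (hx : Function.Surjective (stalkLin φ x)) :
    c1CapFun δ N α (secMor φ hL hN) x = c1CapFun δ L α (sec hL) x := by
  rw [C1Cap.c1CapFun_apply, C1Cap.c1CapFun_apply]
  refine finsum_congr fun ξ => ?_
  by_cases h : ξ ⤳ x
  · have h2 : secMor φ hL hN ξ = fibMor φ ξ (sec hL ξ) :=
      if_pos (surjective_of_specializes φ hL hN h hx)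
    rw [h2, secDivFun_fibMor φ hL hN δ hx (sec_ne_zero hL ξ)]
  · unfold secDivFun
    rw [dif_neg (fun h' => h h'.1), dif_neg (fun h' => h h'.1)]

/-- Isomorphic invertible modules have the same first Chern class. -/
theorem c1_congr' (hX : IsSetup X δX) (hL : PicF.IsInvertible L) (hN : PicF.IsInvertible N)
    (h : ∀ x, Function.Surjective (stalkLin φ x)) (a : G X δX) : c1 hX hN a = c1 hX hL a := by
  obtain ⟨α, rfl⟩ := cl_surjective δX a
  rw [c1_cl_capCycle hX hL]
  refine c1_cl hX hN (s := secMor φ hL hN) (fun ξ _ => secMor_ne_zero φ hL hN ξ) ?_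
  funext x
  rw [coe_capCycle, c1CapFun_secMor φ hL hN δX _ (h x)]

theorem c1_congr (hX : IsSetup X δX) (hL : PicF.IsInvertible L) (hN : PicF.IsInvertible N)
    (e : L ≅ N) : c1 hX hL = c1 hX hN := by
  refine AddMonoidHom.ext fun a => (c1_congr' e.hom hX hL hN (fun x => ?_) a).symm
  intro m
  refine ⟨stalkLin e.inv x m, ?_⟩
  rw [← LinearMap.comp_apply, ← stalkLin_comp, e.inv_hom_id, stalkLin_id]
  rfl

/-- The difference of the first Chern classes of the source and target of a morphism of invertible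
modules comes from any closed subscheme outside of which the morphism is surjective. -/
theorem exists_push_eq (hX : IsSetup X δX) (hL : PicF.IsInvertible L) (hN : PicF.IsInvertible N)
    (i : Z ⟶ X) [IsClosedImmersion i] (hZ : IsSetup Z (fun z => δX (i z)))
    (hi : DeltaCompat i (fun z => δX (i z)) δX)
    (h : ∀ x, x ∉ Set.range ⇑i → Function.Surjective (stalkLin φ x)) (a : G X δX) :
    ∃ b : G Z (fun z => δX (i z)), c1 hX hN a - c1 hX hL a = push hZ hX i hi b := by
  obtain ⟨α, rfl⟩ := cl_surjective δX a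
  obtain ⟨γ, hγ⟩ := exists_cap hX hN α (secMor_ne_zero φ hL hN)
  refine ⟨cl _ (RatTransport.comapCycle i i.isClosedEmbedding.injective (γ - capCycle hX hL α)), ?_⟩
  rw [push_cl, map_comapCycle, map_sub, c1_cl_capCycle hX hL,
    c1_cl hX hN (fun ξ _ => secMor_ne_zero φ hL hN ξ) hγ]
  intro x hx
  rw [Function.locallyFinsuppWithin.coe_sub, Pi.sub_apply, hγ, coe_capCycle,
    c1CapFun_secMor φ hL hN δX _ (h x hx), sub_self]

end K308.Grp
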