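import Groth.Agent.Cyc.K308.RFilt
import Mathlib.Algebra.MvPolynomial.CommRing
import Mathlib.RingTheory.MvPolynomial.Symmetric.Defs

/-!
# Polynomials in first Chern classes

`op δ L : MvPolynomial σ ℤ →+* AddMonoid.End (G X δ)` for a family `L` of modules; `pull_op`,
`push_op`; `prod_sub_eq_zero` : the product formula for families indexed by `Fin r`.
-/

set_option autoImplicit false
universe u v
open AlgebraicGeometry CategoryTheory CategoryTheory.Limits TopologicalSpace Opposite Cyc
open Groth.Agent.CycB Groth.Agent.CycB.C1Pull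

namespace K308.Grp

variable {X Y Z : Scheme.{u}} {δX : X → ℤ} {δY : Y → ℤ} {δZ : Z → ℤ}

/-- The commutative ring generated by the first Chern classes. -/
noncomputable def CR (δ : X → ℤ) : Subring (AddMonoid.End (G X δ)) :=
  Subring.closure (Set.range fun L : X.Modules => C1 δ L)

instance (δ : X → ℤ) : IsMulCommutative (CR δ) :=
  Subring.isMulCommutative_closure (by
    rintro _ ⟨L, rfl⟩ _ ⟨N, rfl⟩
    exact C1_commute δ L N)

open scoped IsMulCommutative in
noncomputable instance (δ : X → ℤ) : CommRing (CR δ) := inferInstance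

/-- The first Chern class as an element of the commutative ring. -/
noncomputable def c1R (δ : X → ℤ) (L : X.Modules) : CR δ :=
  ⟨C1 δ L, Subring.subset_closure ⟨L, rfl⟩⟩

variable {σ : Type*}

/-- Polynomials in first Chern classes, in the commutative ring. -/
noncomputable def opR (δ : X → ℤ) (L : σ → X.Modules) : MvPolynomial σ ℤ →ₐ[ℤ] CR δ :=
  MvPolynomial.aeval fun s => c1R δ (L s)

/-- Polynomials in first Chern classes as endomorphisms of the Chow group. -/
noncomputable def op (δ : X → ℤ) (L : σ → X.Modules) :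
    MvPolynomial σ ℤ →+* AddMonoid.End (G X δ) := (CR δ).subtype.comp (opR δ L).toRingHom

theorem op_X (δ : X → ℤ) (L : σ → X.Modules) (s : σ) : op δ L (MvPolynomial.X s) = C1 δ (L s) := by
  have h : opR δ L (MvPolynomial.X s) = c1R δ (L s) := MvPolynomial.aeval_X _ _
  exact congrArg Subtype.val h

theorem op_C (δ : X → ℤ) (L : σ → X.Modules) (n : ℤ) (a : G X δ) :
    op δ L (MvPolynomial.C n) a = n • a := by
  have h : op δ L (MvPolynomial.C n) = ((n : ℤ) : AddMonoid.End (G X δ)) := by
    have h1 : (MvPolynomial.C n : MvPolynomial σ ℤ) = (n : MvPolynomial σ ℤ) := by simp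
    rw [h1, map_intCast]
  rw [h]
  rfl

theorem op_mul_apply (δ : X → ℤ) (L : σ → X.Modules) (p q : MvPolynomial σ ℤ) (a : G X δ) :
    op δ L (p * q) a = op δ L p (op δ L q a) := by
  rw [map_mul]
  rfl

theorem op_add_apply (δ : X → ℤ) (L : σ → X.Modules) (p q : MvPolynomial σ ℤ) (a : G X δ) :
    op δ L (p + q) a = op δ L p a + op δ L q a := by
  rw [map_add]
  rfl

theorem _root_.AddMonoid.End.sum_apply' {A : Type*} [AddCommGroup A] {ι : Type*} (s : Finset ι)
    (f : ι → AddMonoid.End A) (a : A) : ∑ i ∈ s, f i a = (∑ i ∈ s, f i) a := by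
  classical
  induction s using Finset.induction_on with
  | empty => rfl
  | insert i s hi ih => rw [Finset.sum_insert hi, Finset.sum_insert hi, ih]; rfl

theorem op_sum_apply {ι : Type*} (s : Finset ι) (δ : X → ℤ) (L : σ → X.Modules)
    (p : ι → MvPolynomial σ ℤ) (a : G X δ) :
    op δ L (∑ i ∈ s, p i) a = ∑ i ∈ s, op δ L (p i) a := by
  rw [map_sum, ← AddMonoid.End.sum_apply']

theorem op_one_apply (δ : X → ℤ) (L : σ → X.Modules) (a : G X δ) : op δ L 1 a = a := by
  rw [map_one]
  rfl

theorem op_zsmul_apply (δ : X → ℤ) (L : σ → X.Modules) (n : ℤ) (p : MvPolynomial σ ℤ) (a : G X δ) :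
    op δ L (n • p) a = n • op δ L p a := by
  rw [map_zsmul]
  rfl

theorem op_commute (δ : X → ℤ) (L : σ → X.Modules) (p q : MvPolynomial σ ℤ) :
    Commute (op δ L p) (op δ L q) := by
  rw [Commute, SemiconjBy, ← map_mul, mul_comm, map_mul]

theorem op_pow_apply_X (δ : X → ℤ) (L : σ → X.Modules) (s : σ) (n : ℕ) (a : G X δ) :
    op δ L (MvPolynomial.X s ^ n) a = (C1 δ (L s) ^ n) a := by
  rw [map_pow, op_X]

/-- Renaming of variables. -/
theorem op_rename {τ : Type*} (δ : X → ℤ) (L : σ → X.Modules) (f : τ → σ) (p : MvPolynomial τ ℤ) :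
    op δ L (MvPolynomial.rename f p) = op δ (fun t => L (f t)) p := by
  have h : (op δ L).comp (MvPolynomial.rename f : MvPolynomial τ ℤ →ₐ[ℤ] MvPolynomial σ ℤ).toRingHom =
      op δ (fun t => L (f t)) := by
    apply MvPolynomial.ringHom_ext
    · intro n
      rw [eq_intCast (MvPolynomial.C : ℤ →+* MvPolynomial τ ℤ), map_intCast, map_intCast]
    · intro t
      rw [RingHom.comp_apply, op_X]
      change op δ L (MvPolynomial.rename f (MvPolynomial.X t)) = _
      rw [MvPolynomial.rename_X, op_X]
  exact congrArg (fun g => g p) h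

theorem pull_op (hX : IsSetup X δX) (hY : IsSetup Y δY) (f : X ⟶ Y) [Flat f] {c : ℤ}
    (hc : Shift f δX δY c) (L : σ → Y.Modules) (hL : ∀ s, PicF.IsInvertible (L s))
    (p : MvPolynomial σ ℤ) (a : G Y δY) :
    pull hX hY f hc (op δY L p a) =
      op δX (fun s => (Scheme.Modules.pullback f).obj (L s)) p (pull hX hY f hc a) := by
  induction p using MvPolynomial.induction_on generalizing a with
  | C n => rw [op_C, op_C, map_zsmul]
  | add p q hp hq => rw [op_add_apply, op_add_apply, map_add, hp, hq]
  | mul_X p s ih => rw [op_mul_apply, op_mul_apply, ih, op_X, op_X, pull_C1 hX hY f hc (hL s)]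

theorem push_op (hX : IsSetup X δX) (hY : IsSetup Y δY) (f : X ⟶ Y) [IsProper f]
    (hδ : DeltaCompat f δX δY) (L : σ → Y.Modules) (hL : ∀ s, PicF.IsInvertible (L s))
    (p : MvPolynomial σ ℤ) (a : G X δX) :
    push hX hY f hδ (op δX (fun s => (Scheme.Modules.pullback f).obj (L s)) p a) =
      op δY L p (push hX hY f hδ a) := by
  induction p using MvPolynomial.induction_on generalizing a with
  | C n => rw [op_C, op_C, map_zsmul]
  | add p q hp hq => rw [op_add_apply, op_add_apply, map_add, hp, hq]
  | mul_X p s ih => rw [op_mul_apply, op_mul_apply, ih, op_X, op_X, push_C1 hX hY f hδ (hL s)]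

/-! ### the product formula for families -/

theorem prodC_ofFn {r : ℕ} (δ : X → ℤ) (L : Fin r → X.Modules) (N : X.Modules) :
    prodC δ (List.ofFn L) N = op δ (fun o : Option (Fin r) => o.elim N L)
      (∏ i : Fin r, (MvPolynomial.X (some i) - MvPolynomial.X none)) := by
  have h : (∏ i : Fin r, (MvPolynomial.X (some i) - MvPolynomial.X none) :
      MvPolynomial (Option (Fin r)) ℤ) = (List.ofFn fun i : Fin r =>
        (MvPolynomial.X (some i) - MvPolynomial.X none : MvPolynomial (Option (Fin r)) ℤ)).prod := by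
    rw [List.prod_ofFn]
  rw [h, map_list_prod, List.map_ofFn]
  unfold prodC
  rw [List.map_ofFn]
  congr 2
  funext i
  simp only [Function.comp, map_sub, op_X, Option.elim_some, Option.elim_none]

/-- The product formula: for `E` filtered by invertible modules `L_1, …, L_r` and `q : E ⟶ N`
an epimorphism onto an invertible module, `∏ (x_i - y)` vanishes at `x_i = c_1(L_i)`,
`y = c_1(N)`. -/
theorem op_prod_eq_zero (hX : IsSetup X δX) {r : ℕ} (L : Fin r → X.Modules)
    (hL : ∀ i, PicF.IsInvertible (L i)) {E : X.Modules} (hE : RF (List.ofFn L) E) {N : X.Modules}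
    (hN : PicF.IsInvertible N) (q : E ⟶ N) [Epi q] (a : G X δX) :
    op δX (fun o : Option (Fin r) => o.elim N L)
      (∏ i : Fin r, (MvPolynomial.X (some i) - MvPolynomial.X none)) a = 0 := by
  rw [← prodC_ofFn]
  refine prodC_eq_zero hX _ ?_ hE hN q a
  intro M hM
  rw [List.mem_ofFn] at hM
  obtain ⟨i, rfl⟩ := hM
  exact hL i

end K308.Grp
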