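import Mathlib.Algebra.BigOperators.NatAntidiagonal
import Mathlib.Algebra.BigOperators.Fin

/-!
# Sums over an antidiagonal with bounded support
-/

set_option autoImplicit false

namespace K308.SumAnti

/-- A sum over the antidiagonal of a function vanishing outside of a box is a double sum. -/
theorem sum_antidiagonal_eq {A : Type*} [AddCommMonoid A] (r s j : ℕ) (f : ℕ → ℕ → A)
    (h1 : ∀ a b, r < a → f a b = 0) (h2 : ∀ a b, s < b → f a b = 0) :
    ∑ ab ∈ Finset.antidiagonal j, f ab.1 ab.2 =
      ∑ a : Fin (r + 1), ∑ b : Fin (s + 1), if (a : ℕ) + (b : ℕ) = j then f a b else 0 := by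
  rw [Fin.sum_univ_eq_sum_range (fun a => ∑ b : Fin (s + 1), if a + (b : ℕ) = j then f a b else 0)
    (r + 1)]
  have h3 : ∀ a : ℕ, (∑ b : Fin (s + 1), if a + (b : ℕ) = j then f a b else 0) =
      ∑ b ∈ Finset.range (s + 1), if a + b = j then f a b else 0 := fun a =>
    Fin.sum_univ_eq_sum_range (fun b => if a + b = j then f a b else 0) (s + 1)
  simp only [h3]
  rw [← Finset.sum_product', ← Finset.sum_filter]
  symm
  apply Finset.sum_subset
  · intro ab hab
    rw [Finset.mem_filter] at hab
    rw [Finset.mem_antidiagonal]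
    exact hab.2
  · intro ab hab hab'
    rw [Finset.mem_antidiagonal] at hab
    by_cases h4 : r < ab.1
    · exact h1 _ _ h4
    · by_cases h5 : s < ab.2
      · exact h2 _ _ h5
      · exfalso
        apply hab'
        rw [Finset.mem_filter, Finset.mem_product, Finset.mem_range, Finset.mem_range]
        exact ⟨⟨by omega, by omega⟩, hab⟩

end K308.SumAnti
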