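import Groth.Agent.Cyc.K308.Tower
import Groth.Agent.Krr.H484.PnFree
import Groth.Agent.Krr.H484.PBTransport
import Groth.Agent.Krr.H484.PBUnique
import Groth.Agent.Mor.K386.HQP
import Groth.Agent.Ega2.RelAmpComp
import Groth.Agent.S2337
import Groth.Agent.S12416

/-!
# Towers of projective bundles are locally projective

* `isRelAmple_O1`: the tautological module of a projective bundle is relatively ample;
* `IsTower.isLocallyProjective`.
-/

set_option autoImplicit false

universe u

open AlgebraicGeometry CategoryTheory CategoryTheory.Limits TopologicalSpace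

namespace K308.Grp

variable {X P : Scheme.{u}}

theorem isRelVeryAmplePn_restrict {r : ℕ} {p : P ⟶ X} {E : X.Modules} {O1 : P.Modules}
    {q : (Scheme.Modules.pullback p).obj E ⟶ O1} (B : KRR.IsProjBundle p E O1 q) (V : X.Opens)
    (e : E.restrict V.ι ≅ FlatMod.freeMod (V : Scheme.{u}) (r + 1)) :
    RelAmple.IsRelVeryAmplePn (p ∣_ V) (O1.restrict (p ⁻¹ᵁ V).ι) := by
  have sq : IsPullback (p ⁻¹ᵁ V).ι (p ∣_ V) p V.ι := isPullback_morphismRestrict p V |>.flip
  have B1 := Groth.Agent.Krr.H484.PBTransport.baseChange sq B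
  have B2 := Groth.Agent.Krr.H484.PBTransport.of_iso
    (((Scheme.Modules.restrictFunctorIsoPullback V.ι).app E).symm ≪≫ e) B1
  obtain ⟨φ, hg, ε, -⟩ := Groth.Agent.Krr.H484.PBUnique.exists_iso B2
    (Groth.Agent.Krr.H484.PnFree.isProjBundle_over r (V : Scheme.{u}))
  refine ⟨r, φ.hom, inferInstance, hg, ⟨?_⟩⟩
  exact (Scheme.Modules.restrictFunctorIsoPullback _).app O1 ≪≫ ε.symm

/-- The tautological module of a projective bundle is relatively ample. -/
theorem isRelAmple_O1 {r : ℕ} {p : P ⟶ X} [LocallyOfFiniteType p] [QuasiCompact p]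
    {E : X.Modules} (hE : FlatMod.IsFinLocFreeOfRank (r + 1) E) {O1 : P.Modules}
    {q : (Scheme.Modules.pullback p).obj E ⟶ O1} (B : KRR.IsProjBundle p E O1 q) :
    RelAmple.IsRelAmple p O1 := by
  refine (Groth.Agent.S9695.result p O1
    (Groth.Agent.Ega2.QCohLocal.isFinLocFreeOfRank_one_iff.1 B.invertible)).mpr ?_
  choose V hV e using hE
  refine ⟨X, V, ?_, fun x => ⟨1, one_pos, ?_⟩⟩
  · rw [eq_top_iff]
    intro x _
    exact Opens.mem_iSup.2 ⟨x, hV x⟩
  · refine Groth.Agent.K385.VeryAmpleBC.of_iso (isRelVeryAmplePn_restrict B (V x) (e x).some) ?_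
    exact (Scheme.Modules.restrictFunctor _).mapIso (Groth.Agent.Ega2.TensPow.powOne O1).symm

theorem exists_isRelAmple_of_isIso (f : P ⟶ X) [IsIso f] :
    RelAmple.IsRelAmple f (Coh.structureModule P) := by
  refine (Groth.Agent.S2337.result f).1 ⟨inferInstance, fun V hV => ?_⟩
  have h1 : IsAffine (V : Scheme.{u}) := hV
  have h2 : IsAffine (f ⁻¹ᵁ V : Scheme.{u}) := IsAffine.of_isIso (f ∣_ V)
  infer_instance

theorem IsTower.exists_isRelAmple {f : P ⟶ X} {d : ℕ} (h : IsTower f d) :
    ∀ [CompactSpace X], ∃ L : P.Modules, RelAmple.IsRelAmple f L := by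
  induction h with
  | iso f hf =>
    intro _
    exact ⟨_, exists_isRelAmple_of_isIso f⟩
  | cons g f h e hf hE B ih =>
    intro _
    obtain ⟨L, hL⟩ := ih
    have := PB.isProper hE B
    have := hf.isProper
    have h1 := isRelAmple_O1 hE B
    obtain ⟨n, -, hn⟩ := Groth.Agent.Ega2.RelAmp.relAmple_comp g f _ L h1 hL
    rw [← e]
    exact ⟨_, hn n le_rfl⟩

theorem IsTower.isProjective {f : P ⟶ X} {d : ℕ} (h : IsTower f d) [CompactSpace X]
    [QuasiSeparatedSpace X] : RelProj.IsProjective f := by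
  have := h.isProper
  obtain ⟨L, hL⟩ := h.exists_isRelAmple
  exact Groth.Agent.S12416.result f ⟨inferInstance, inferInstance, L, hL⟩

theorem IsTower.isLocallyProjective {f : P ⟶ X} {d : ℕ} (h : IsTower f d) :
    RelProj.IsLocallyProjective f := by
  intro x
  obtain ⟨_, ⟨V, hV, rfl⟩, hxV, -⟩ := X.isBasis_affineOpens.exists_subset_of_mem_open
    (show x ∈ (⊤ : X.Opens) from trivial) (⊤ : X.Opens).2
  have h1 : IsAffine (V : Scheme.{u}) := hV
  refine ⟨V, hxV, ?_⟩
  exact (h.baseChange (isPullback_morphismRestrict f V).flip).isProjective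

end K308.Grp
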